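import Mathlib
import Cfsg.Prelude.Def_KGroupFacts
import Cfsg.Agent.Lib.FieldAutCard
import Cfsg.Agent.Prune
set_option linter.all false
prune_inst 0x7f00000000000000000000000000000000000000000000000000000000000000000000000000000000000000000000000000000000000000000000000000000000000000000000000000000000000000003fffffffffffffffffffffffffffbeffbdffffffff
open scoped Cfsg.Agent.FastGrp

/-!
# Field automorphisms give elements of large order of `Out G`
-/

set_option autoImplicit false

namespace Cfsg.Agent.H933.SubField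

theorem exists_orderOf {F : Type*} [Field F] [Fintype F] {p f : ℕ} [Fact p.Prime] (hf : 1 ≤ f)
    (hF : Fintype.card F = p ^ f) : ∃ σ : F ≃+* F, orderOf σ = f := by
  have hchar : CharP F p := by
    obtain ⟨q, hq⟩ := CharP.exists F
    obtain ⟨n, hqp, hn⟩ := FiniteField.card F q
    have hpp : p.Prime := Fact.out
    have : q ∣ p ^ f := by
      rw [← hF, hn]
      exact dvd_pow_self q n.pos.ne'
    have hqp' : q = p := (Nat.prime_dvd_prime_iff_eq hqp hpp).1 (hqp.dvd_of_dvd_pow this)
    rwa [← hqp']
  let _ : Algebra (ZMod p) F := ZMod.algebra F p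
  let j : (F ≃+* F) →* (F ≃ₐ[ZMod p] F) :=
    { toFun := fun φ => AlgEquiv.ofRingEquiv (f := φ) (fun a => by
        have : (φ : F →+* F).comp (algebraMap (ZMod p) F) = algebraMap (ZMod p) F :=
          Subsingleton.elim _ _
        exact RingHom.congr_fun this a)
      map_one' := by ext; rfl
      map_mul' := fun a b => by ext; rfl }
  have hj : Function.Injective j := by
    intro a b h
    ext x
    exact DFunLike.congr_fun h x
  have hc : IsCyclic (F ≃+* F) := isCyclic_of_injective j hj
  have hfin : Finite (F ≃+* F) := Finite.of_injective j hj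
  obtain ⟨σ, hσ⟩ := IsCyclic.exists_ofOrder_eq_natCard (α := F ≃+* F)
  exact ⟨σ, by rw [hσ, Cfsg.Agent.Lib.FieldAutCard.card_ringAut hf hF]⟩

theorem dvd_orderOf {G : Type*} [Group G] {Γ : Type*} [Group Γ] {σ : Γ} (α : MulAut G)
    (h : ∀ (k : ℕ) (g : G), α ^ k = MulAut.conj g → σ ^ k = 1) :
    orderOf σ ∣ orderOf (QuotientGroup.mk α : Cfsg.Out G) := by
  rw [orderOf_dvd_iff_pow_eq_one]
  have h1 : (QuotientGroup.mk α : Cfsg.Out G) ^ orderOf (QuotientGroup.mk α : Cfsg.Out G) = 1 := pow_orderOf_eq_one _
  rw [← QuotientGroup.mk_pow, QuotientGroup.eq_one_iff] at h1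
  obtain ⟨g, hg⟩ := h1
  exact h _ g hg.symm

end Cfsg.Agent.H933.SubField
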