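import Mathlib
import Cfsg.Agent.H907.ExtFree
import Cfsg.Agent.H933.SubField
import Cfsg.Agent.H69.OutTwD4
import Cfsg.Agent.H166.OutTwESix
import Cfsg.Agent.H71.FldAut
import Cfsg.Agent.H70.SzOut
import Cfsg.Agent.H934.IdxTwD4
import Cfsg.Agent.H934.IdxTwE6
import Cfsg.Agent.H934.IdxTwF4
import Cfsg.Agent.H934.IdxSz_m3
import Cfsg.Agent.S2126
import Cfsg.Agent.S2127
import Cfsg.Agent.S2128
import Cfsg.Agent.S2129
import Cfsg.Agent.S2130
import Cfsg.Agent.Prune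
set_option linter.all false
prune_inst 0x7f00000000000000000000000000000000000000000000000000000000000000000000000000000000000000000000000000000000000000000000000000000000000000000000000000000000000000003fffffffffffffffffffffffffffbeffbdffffffff
open scoped Cfsg.Agent.FastGrp

/-!
# The number of subgroups of `Out(S)`, `S` a twisted exceptional group
-/

set_option autoImplicit false

namespace Cfsg.Agent.H933.SubTwist

open Cfsg Cfsg.Agent.H933.SubCount Cfsg.Agent.H933.SubNum Cfsg.Agent.H933.SubField Cfsg.Agent.H933.SubClass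
open Cfsg.Lie

universe u

theorem isCyclic_ringAut {F : Type*} [Field F] [Fintype F] {p f : ℕ} [Fact p.Prime] (hf : 1 ≤ f)
    (hF : Fintype.card F = p ^ f) : IsCyclic (F ≃+* F) := by
  obtain ⟨σ, hσ⟩ := exists_orderOf hf hF
  have h1 : Nat.card (F ≃+* F) = f := Cfsg.Agent.Lib.FieldAutCard.card_ringAut hf hF
  have : Finite (F ≃+* F) := Nat.finite_of_card_ne_zero (by omega)
  exact isCyclic_of_orderOf_eq_card σ (by rw [hσ, h1])

theorem isCyclic_out {G : Type*} [Group G] {Γ : Type*} [Group Γ] [IsCyclic Γ] (Φ : Γ → MulAut G)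
    (hΦ : ∀ a b, Φ (a * b) = Φ a * Φ b) (h : ∀ α : MulAut G, ∃ (g : G) (τ : Γ), α = MulAut.conj g * Φ τ) :
    IsCyclic (Cfsg.Out G) := by
  let j : Γ →* Cfsg.Out G := (QuotientGroup.mk' (Cfsg.Inn G)).comp (MonoidHom.mk' Φ hΦ)
  refine isCyclic_of_surjective j ?_
  intro x
  obtain ⟨α, rfl⟩ := QuotientGroup.mk_surjective x
  obtain ⟨g, τ, hα⟩ := h α
  refine ⟨τ, ?_⟩
  show (QuotientGroup.mk (Φ τ) : Cfsg.Out G) = QuotientGroup.mk α
  rw [hα, QuotientGroup.mk_mul]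
  have h2 : (QuotientGroup.mk (MulAut.conj g) : Cfsg.Out G) = 1 := (QuotientGroup.eq_one_iff _).2 ⟨g, rfl⟩
  rw [h2, one_mul]

variable {K : Type} [Field K] [Fintype K]

theorem few_sz {m : ℕ} (hm : 1 ≤ m) (hK : Fintype.card K = 2 ^ (2 * m + 1))
    (hs : IsSimpleGroup ↥(Cfsg.Lie.Sz K (2 ^ (m + 1)))) : Few ↥(Cfsg.Lie.Sz K (2 ^ (m + 1))) := by
  intro H hH
  have hfin : Finite ↥(Cfsg.Lie.Sz K (2 ^ (m + 1))) := inferInstance
  have hidx := Cfsg.Agent.H934.IdxSz.card_le_index hK hs H hH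
  rw [hK, ← pow_one (2 ^ (2 * m + 1))] at hidx
  have hcard := Cfsg.Agent.S2126.result (F := K) hm hK
  have hf2 : Fact (Nat.Prime 2) := ⟨Nat.prime_two⟩
  obtain ⟨σ, hσ⟩ := exists_orderOf (show 1 ≤ 2 * m + 1 by omega) hK
  have hx : orderOf σ ∣ orderOf (QuotientGroup.mk (Cfsg.Agent.H70.SzOut.fieldAut
      (Cfsg.Agent.LieRecognition.SzMatrix.good hK) σ) : Cfsg.Out ↥(Cfsg.Lie.Sz K (2 ^ (m + 1)))) := by
    refine dvd_orderOf _ fun k g hg => ?_
    rw [← map_pow] at hg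
    exact Cfsg.Agent.H70.SzOut.eq_one_of_conj _ hg
  rw [hσ] at hx
  have h6 := nsub_le_of_one hx hcard
  refine cub_two le_rfl hidx (h6.trans ?_)
  rw [mul_one]
  exact Nat.le_self_pow (by norm_num) _

theorem few_ree {m : ℕ} (hm : 1 ≤ m) (hK : Fintype.card K = 3 ^ (2 * m + 1))
    (hs : IsSimpleGroup ↥(twistedG2 K (3 ^ m))) (hna : ¬ IsMulCommutative ↥(twistedG2 K (3 ^ m))) :
    Few ↥(twistedG2 K (3 ^ m)) := by
  intro H hH
  have hfin : Finite ↥(twistedG2 K (3 ^ m)) := inferInstance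
  have h5 := five_le hs hna H hH
  have hidx := Cfsg.Agent.H934.IdxRee.card_le_two_mul hK hs H hH
  rw [hK] at hidx
  have hcard := Cfsg.Agent.S2127.result (K := K) hm hK
  have hf3 : Fact (Nat.Prime 3) := ⟨Nat.prime_three⟩
  have hc : IsCyclic (K ≃+* K) := isCyclic_ringAut (show 1 ≤ 2 * m + 1 by omega) hK
  have hc2 : IsCyclic (Cfsg.Out ↥(twistedG2 K (3 ^ m))) :=
    isCyclic_out (fun τ => Cfsg.Agent.S2127.fld τ (3 ^ m)) (fun a b => Cfsg.Agent.H71.FldAut.fldG_mul a b _)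
      (fun α => Cfsg.Agent.H71.FldAut.ree_aut hm hK α)
  have h6 := nsub_cyclic_le (N := Cfsg.Out ↥(twistedG2 K (3 ^ m)))
  rw [hcard] at h6
  exact cub_half le_rfl hidx h5 (by omega)

theorem few_twF4 {m : ℕ} (hm : 1 ≤ m) (hK : Fintype.card K = 2 ^ (2 * m + 1))
    (hs : IsSimpleGroup ↥(twistedF4 K (2 ^ m))) : Few ↥(twistedF4 K (2 ^ m)) := by
  intro H hH
  have hfin : Finite ↥(twistedF4 K (2 ^ m)) := inferInstance
  have hidx := Cfsg.Agent.H934.IdxTwF4.card_le_index hK hs H hH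
  rw [hK, ← pow_one (2 ^ (2 * m + 1))] at hidx
  have hcard := Cfsg.Agent.S2128.result (K := K) hm hK
  have hf3 : Fact (Nat.Prime 2) := ⟨Nat.prime_two⟩
  have hc : IsCyclic (K ≃+* K) := isCyclic_ringAut (show 1 ≤ 2 * m + 1 by omega) hK
  have hc2 : IsCyclic (Cfsg.Out ↥(twistedF4 K (2 ^ m))) :=
    isCyclic_out (fun τ => Cfsg.Agent.S2128.fld τ (2 ^ m)) (fun a b => Cfsg.Agent.H71.FldAut.fldF_mul a b _)
      (fun α => Cfsg.Agent.H71.FldAut.twF4_aut hm hK α)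
  have h6 := nsub_cyclic_le (N := Cfsg.Out ↥(twistedF4 K (2 ^ m)))
  rw [hcard] at h6
  refine cub_two le_rfl hidx (h6.trans ?_)
  rw [mul_one]
  exact Nat.le_self_pow (by norm_num) _

end Cfsg.Agent.H933.SubTwist

namespace Cfsg.Agent.H933.SubTwistD

open CoxeterSystem Cfsg.Agent.ChevalleyStructure.CoxeterGeom Cfsg.Agent.Tits.Roots Cfsg.Agent.Tits.Core
  Cfsg.Agent.Tits.Exchange Cfsg.Agent.Nodes.Reps Cfsg.Agent.Nodes.BNOf Cfsg.Agent.Nodes.StabComb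
  Cfsg.Agent.Nodes.Bruhat Cfsg.Agent.Nodes.OppDec Cfsg.Agent.Nodes.RGDTwGen Cfsg.Agent.Nodes.RGDChev
  Cfsg.Agent.Nodes.RGDFold Cfsg.Agent.Nodes.RGDFoldSL
open Cfsg.Agent.KFacts.RgdOpp Cfsg.Agent.KFacts.RgdAut Cfsg.Agent.KFacts.RgdDiag Cfsg.Agent.KFacts.RgdRigid
  Cfsg.Agent.KFacts.RgdField Cfsg.Agent.KFacts.RgdTau Cfsg.Agent.KFacts.RgdNodes
open Cfsg Cfsg.Lie Cfsg.Agent.ChevalleyStructure Cfsg.Agent.ChevalleyStructure.Elts Cfsg.Agent.ChevStructure.FieldMap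
open Cfsg.Agent.ChevalleyStructure.SL2Hom (up lo)
open Cfsg.Agent.KFacts.TwDFour.Out
open Cfsg.Agent.Nodes.RGDTwD4 Cfsg.Agent.Nodes.RGDTwNode.D4
open Cfsg.Agent.ParSys.Fam.D4 (hf)
open Cfsg.Agent.CpAut.RgdTwStd
open Cfsg.Agent.H69.OutCount Cfsg.Agent.H69.OutTwD4
open Cfsg.Agent.H933.SubCount Cfsg.Agent.H933.SubNum Cfsg.Agent.H933.SubField Cfsg.Agent.H933.SubClass

theorem exists_out {K : Type} [Field K] [Fintype K] {q : ℕ} (hq : IsPrimePow q) (hK : Fintype.card K = q ^ 3) (p : ℕ)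
    [Fact p.Prime] [CharP K p] (σ : K ≃+* K) : ∃ x : Cfsg.Out ↥(twistedD4 K q), orderOf σ ∣ orderOf x := by
  obtain ⟨φ, hφ⟩ := D4Fixed.exists_frob hq hK
  let cs : CoxeterSystem CoxeterMatrix.G₂ CoxeterMatrix.G₂.Group := CoxeterMatrix.G₂.toCoxeterSystem
  have hfin : Finite CoxeterMatrix.G₂.Group := finiteW cs
  have R := Cfsg.Agent.Nodes.RGDTwD4.rgd cs hK hφ p
  have hG1 : RGD.Sup (X φ q) {x | IsRoot cs isCartan x} = ⊤ := G1_eq_top cs hK hφ
  refine ⟨_, dvd_orderOf (st q σ) fun k g hg => ?_⟩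
  have hpow : ∀ k : ℕ, DTau hφ hK (st q σ ^ k) (σ ^ k) := by
    intro k
    induction k with
    | zero => rw [pow_zero, pow_zero]; exact DTau.one hφ hK
    | succ k ih => rw [pow_succ, pow_succ]; exact ih.mul hφ hK (dtau_st hφ hK σ cs p)
  have h1 := hpow k
  rw [hg] at h1
  have h2 := mem_T_of_diag R hG1 h1.diag
  exact h1.unique hφ hK (dtau_conj hφ hK cs p h2)

theorem few_twD4 {K : Type} [Field K] [Fintype K] {q : ℕ} (hq : IsPrimePow q) (hK : Fintype.card K = q ^ 3)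
    (hs : IsSimpleGroup ↥(twistedD4 K q)) : Few ↥(twistedD4 K q) := by
  intro H hH
  obtain ⟨p, f, hp, hf, hqf⟩ := (isPrimePow_nat_iff q).1 hq
  have hfp : Fact p.Prime := ⟨hp⟩
  subst hqf
  have hK' : Fintype.card K = p ^ (3 * f) := by rw [hK, ← pow_mul, mul_comm]
  have hch : CharP K p := charP_of_card_eq_prime_pow hK'
  have hidx := Cfsg.Agent.H934.IdxTwD4.card_le_index hq hK hs H hH
  have hcard := Cfsg.Agent.S2129.result (K := K) p f hK' hf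
  obtain ⟨σ, hσ⟩ := exists_orderOf (show 1 ≤ 3 * f by omega) hK'
  obtain ⟨x, hx⟩ := exists_out hq hK p σ
  rw [hσ] at hx
  have hfin : Finite ↥(twistedD4 K (p ^ f)) := inferInstance
  have h6 := nsub_le_of_one hx hcard
  refine cub_two hp.two_le hidx (h6.trans ?_)
  rw [mul_pow]
  have : f ≤ f ^ 3 := Nat.le_self_pow (by norm_num) _
  omega

end Cfsg.Agent.H933.SubTwistD

namespace Cfsg.Agent.H933.SubTwistE

open CoxeterSystem Cfsg.Agent.ChevalleyStructure.CoxeterGeom Cfsg.Agent.Tits.Roots Cfsg.Agent.Tits.Core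
  Cfsg.Agent.Tits.Exchange Cfsg.Agent.Nodes.Reps Cfsg.Agent.Nodes.BNOf Cfsg.Agent.Nodes.StabComb
  Cfsg.Agent.Nodes.Bruhat Cfsg.Agent.Nodes.OppDec Cfsg.Agent.Nodes.RGDTwGen Cfsg.Agent.Nodes.RGDChev
  Cfsg.Agent.Nodes.RGDFold Cfsg.Agent.Nodes.RGDFoldSL
open Cfsg.Agent.KFacts.RgdOpp Cfsg.Agent.KFacts.RgdAut Cfsg.Agent.KFacts.RgdDiag Cfsg.Agent.KFacts.RgdRigid
  Cfsg.Agent.KFacts.RgdField Cfsg.Agent.KFacts.RgdTau Cfsg.Agent.KFacts.RgdNodes
open Cfsg Cfsg.Lie Cfsg.Agent.ChevalleyStructure Cfsg.Agent.ChevalleyStructure.Elts Cfsg.Agent.ChevStructure.FieldMap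
open Cfsg.Agent.ChevalleyStructure.SL2Hom (up lo)
open Cfsg.Agent.KFacts.TwESix.NodeCoord Cfsg.Agent.KFacts.TwESix.Out Cfsg.Agent.KFacts.TwESix.OutTwo
open Cfsg.Agent.Nodes.RGDTwE6 Cfsg.Agent.Nodes.RGDTwNode.E6
open Cfsg.Agent.ChevalleyStructure.TwE6Basic (hE6 single_mem pair_mem twisted_le_iff exists_frob twisted_le_fix)
open Cfsg.Agent.H166.OutNodes Cfsg.Agent.H166.OutRGD Cfsg.Agent.H69.OutCount
open Cfsg.Agent.CpAut.RgdTwE6 (st rs st_up ntau_st ntau_of_ftau tau_phi coe_up ftau_pow)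
open Cfsg.Agent.H933.SubCount Cfsg.Agent.H933.SubNum Cfsg.Agent.H933.SubField Cfsg.Agent.H933.SubClass

theorem exists_out {K : Type} [Field K] [Fintype K] {q : ℕ} (hq : IsPrimePow q) (hK : Fintype.card K = q ^ 2) (p : ℕ)
    [Fact p.Prime] [CharP K p] (σ : K ≃+* K) : ∃ x : Cfsg.Out ↥(twistedE6 K q), orderOf σ ∣ orderOf x := by
  obtain ⟨φ, hφ, hqq⟩ := exists_frob hq hK
  have hW : Finite CoxeterMatrix.F₄.Group :=
    Cfsg.Agent.Nodes.RGDFold.finite_W (hp := Cfsg.Agent.Nodes.RGDTwE6.hp) CoxeterMatrix.F₄.toCoxeterSystem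
      Cfsg.Agent.Nodes.RGDTwE6.isCartan Cfsg.Agent.Nodes.RGDTwE6.foldData
  let cs : CoxeterSystem CoxeterMatrix.F₄ CoxeterMatrix.F₄.Group := CoxeterMatrix.F₄.toCoxeterSystem
  have R := Cfsg.Agent.Nodes.RGDTwE6.rgd cs hφ hqq p
  have hG1 := G1_top cs hφ hqq
  refine ⟨_, dvd_orderOf (st q σ) fun k g hg => ?_⟩
  have h0 : FTau hφ hqq (st q σ) σ := by
    have S := ntau_st hφ hqq σ cs p
    exact ⟨S.diag, fun i t ht => congrArg Subtype.val (S.char i t ht)⟩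
  have h1 := ftau_pow hφ hqq h0 k
  rw [hg] at h1
  have h2 := Cfsg.Agent.H69.OutCount.mem_T_of_diag R hG1 h1.diag
  exact h1.unique hφ hqq (ftau_conj hφ hqq cs p h2)

theorem few_twE6 {K : Type} [Field K] [Fintype K] {q : ℕ} (hq : IsPrimePow q) (hK : Fintype.card K = q ^ 2)
    (hs : IsSimpleGroup ↥(twistedE6 K q)) (hna : ¬ IsMulCommutative ↥(twistedE6 K q)) : Few ↥(twistedE6 K q) := by
  intro H hH
  obtain ⟨p, f, hp, hf, hqf⟩ := (isPrimePow_nat_iff q).1 hq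
  have hfp : Fact p.Prime := ⟨hp⟩
  subst hqf
  have hfin : Finite ↥(twistedE6 K (p ^ f)) := inferInstance
  have h5 := five_le hs hna H hH
  have hK' : Fintype.card K = p ^ (2 * f) := by rw [hK, ← pow_mul, mul_comm]
  have hch : CharP K p := charP_of_card_eq_prime_pow hK'
  have hidx := Cfsg.Agent.H934.IdxTwE6.card_le_index hq hK hs H hH
  have hcard := Cfsg.Agent.S2130.result (K := K) p f hK' hf
  obtain ⟨σ, hσ⟩ := exists_orderOf (show 1 ≤ 2 * f by omega) hK'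
  obtain ⟨x, hx⟩ := exists_out hq hK p σ
  rw [hσ] at hx
  have h2 : nsub (Cfsg.Out ↥(twistedE6 K (p ^ f))) ≤ 3 * f * (2 * f + 1) := by
    rcases (Nat.dvd_prime Nat.prime_three).1 (Nat.gcd_dvd_left 3 (p ^ f + 1)) with h1 | h1
    · rw [h1, mul_one] at hcard
      have := nsub_le_of_one hx hcard
      nlinarith
    · rw [h1] at hcard
      have := nsub_le_of_three hx (by rw [hcard]; ring)
      nlinarith
  rcases Nat.eq_or_lt_of_le hf with rfl | hf2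
  · exact cub_of_five h5 (by omega)
  · refine cub_two hp.two_le hidx (h2.trans ?_)
    have hf2' : 2 ≤ f := hf2
    calc 3 * f * (2 * f + 1) = f * (6 * f + 3) := by ring
      _ ≤ f * (8 * (f * f)) := Nat.mul_le_mul_left f (by nlinarith)
      _ = (f * 2) ^ 3 := by ring

end Cfsg.Agent.H933.SubTwistE
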