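import Cfsg.Agent.H87.TitsData
import Cfsg.Agent.H20.FrobTits_m3
import Cfsg.Agent.H403.TitsSixteen
import Cfsg.Agent.H478.RadTools_m3
import Cfsg.Agent.Prune
set_option linter.all false
prune_inst 0x7f00000000000000000000000000000000000000000000000000000000000000000000000000000000000000000000000000000000000000000000000000000000000000000000000000000000000000003fffffffffffffffffffffffffffbeffbdffffffff
open scoped Cfsg.Agent.FastGrp

/-!
# Elements of order three of the Tits group (helper933, row of S3854, S3832, S4336)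

All elements of order 3 are conjugate to `t` and there is an involution `v` with `(t v) ^ 13 = 1`.
-/

set_option autoImplicit false

namespace Cfsg.Agent.H933.TitsRadThree

open Subgroup Cfsg

/-- all elements of order three are conjugate to `t`, and `t v` has order 13 -/
def Prop3 (G : Type*) [Group G] : Prop :=
  ∃ t v : G, t ^ 3 = 1 ∧ t ≠ 1 ∧ v * v = 1 ∧ (t * v) ^ 13 = 1 ∧ ∀ y : G, orderOf y = 3 → IsConj y t

theorem Prop3.congr {G H : Type*} [Group G] [Group H] (e : G ≃* H) (h : Prop3 G) : Prop3 H := by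
  obtain ⟨t, v, h1, h2, h3, h4, h5⟩ := h
  refine ⟨e t, e v, by rw [← map_pow, h1, map_one], fun h6 => h2 (e.injective (by rw [h6, map_one])),
    by rw [← map_mul, h3, map_one], by rw [← map_mul, ← map_pow, h4, map_one], fun y hy => ?_⟩
  have h6 := h5 (e.symm y) (by rw [MulEquiv.orderOf_eq, hy])
  obtain ⟨c, hc⟩ := isConj_iff.1 h6
  refine isConj_iff.2 ⟨e c, ?_⟩
  rw [← hc]
  simp

theorem isConj_t {G : Type*} [Group G] [Finite G] (D : H87.TitsAbs.Dat G) (hc : Nat.card G = 2 ^ 11 * 3 ^ 3 * 5 ^ 2 * 13)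
    {y : G} (hy : orderOf y = 3) : IsConj y D.t := by
  have hi : ¬ 3 ∣ D.R.index := by
    have h := D.R.card_mul_index
    rw [D.card_R, hc] at h
    have h1 : D.R.index = 2 ^ 11 * 5 ^ 2 * 13 := by omega
    rw [h1]; norm_num
  obtain ⟨g, hg⟩ := H20.FrobTits.exists_conj_mem (a := 3) Nat.prime_three (R := D.R) (by rw [D.card_R]; norm_num) hi
    (b := 1) (y := y) (by rw [pow_one, ← hy, pow_orderOf_eq_one])
  have h1 := D.R_isConj hg (fun h => by
    rw [conj_eq_one_iff] at h
    rw [h, orderOf_one] at hy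
    omega)
  exact (isConj_iff.2 ⟨g, rfl⟩).trans h1

section model

open Cfsg.Agent.KFacts.OddLift.Basic Cfsg.Agent.KFacts.OddLift.TitMat Cfsg.Agent.KFacts.OddLift.TitGen
open Cfsg.Agent.SporadicRecognition.CosetCert Cfsg.Agent.SporadicRecognition.CosetCertHyp
open Cfsg.Agent.ChevalleyStructure.Tits.Pack Cfsg.Agent.ChevalleyStructure.Tits.Mat
  Cfsg.Agent.ChevalleyStructure.Tits.Main Cfsg.Agent.ChevalleyStructure.Tits.Order
open Cfsg.Agent.H87.TitsData

open scoped MatrixGroups

/-- word of `v` -/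
def vw : List ℕ := pw [0, 7] 3

/-- relations `u = v` -/
def rl' : List (List ℕ × List ℕ) := [(vw ++ vw, []), (pw ([2] ++ vw) 13, [])]

theorem rl_ok' : rl'.all (fun p => Nat.beq (evP p.1) (evP p.2)) = true := by decide +kernel

theorem rl_lt' : rl'.all (fun p => (p.1.all fun y => Nat.blt y 8) && p.2.all fun y => Nat.blt y 8) = true := by
  decide +kernel

theorem rel' {u v : List ℕ} (h : (u, v) ∈ rl') : ev (lt b 4) u = ev (lt b 4) v := by
  have h1 := rl_ok'
  rw [List.all_eq_true] at h1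
  have h2 := rl_lt'
  rw [List.all_eq_true] at h2
  have h3 := h2 _ h
  rw [Bool.and_eq_true] at h3
  apply Subtype.ext
  rw [coe_ev_b, coe_ev_b]
  apply Subtype.ext
  rw [coe_ev_bH, coe_ev_bH]
  apply Units.ext
  rw [coe_ev (all_lt8 h3.1), coe_ev (all_lt8 h3.2), Nat.eq_of_beq_eq_true (h1 _ h)]

theorem prop3_aux (K : Subgroup (GL I52 (ZMod 2))) (hK : K = H0) : Prop3 ↥(commutator K) := by
  subst hK
  have hcard : Nat.card (commutator H0) = 2 ^ 11 * 3 ^ 3 * 5 ^ 2 * 13 := H0_result.2.2.2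
  have hfin : Finite (commutator H0) := Nat.finite_of_card_ne_zero (by rw [hcard]; norm_num)
  refine ⟨dat.t, ev (lt b 4) vw, dat.t3, dat.t1, ?_, ?_, fun y hy => isConj_t dat hcard hy⟩
  · have h := rel' (u := vw ++ vw) (v := []) (by simp [rl'])
    rwa [H87.TitsData.ev_append, ev_nil] at h
  · have h := rel' (u := pw ([2] ++ vw) 13) (v := []) (by simp [rl'])
    rw [ev_pw, H87.TitsData.ev_append, ev_one, ev_nil] at h
    exact h

theorem prop3_tits : Prop3 Cfsg.Lie.TitsGroup := prop3_aux _ T0_eq_H0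

end model

theorem prop3_iso {K : Type*} [Group K] (h : Cfsg.Lie.IsoTits K) : Prop3 K := by
  obtain ⟨e⟩ := h
  have e' := e.symm
  exact @Prop3.congr Cfsg.Lie.TitsGroup K _ _ e' prop3_tits

/-- **the Tits group** -/
theorem irow_tits {K : Type*} [Group K] [Finite K] [IsSimpleGroup K] (h : Cfsg.Lie.IsoTits K) :
    Cfsg.Agent.H959.Rad3.IRow K := by
  intro x hx hR hI
  have ho := Cfsg.Agent.CpAutTits.Row.out h
  have hc := Cfsg.Agent.CpAutTits.Row.center_bot ho
  obtain ⟨y, rfl⟩ := Cfsg.Agent.CpAutTits.Row.autInner h Nat.prime_three (by norm_num) x hx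
  have hy : orderOf y = 3 := by rw [← Cfsg.Agent.CpAut.orderOf_conj hc y, hx]
  obtain ⟨t, v, h1, h2, h3, h4, h5⟩ := prop3_iso h
  obtain ⟨g, hg⟩ := isConj_iff.1 (h5 y hy)
  have h6 : H959.Rad3.Inv (MulAut.conj t) := by
    rw [← hg]
    exact hI.conj g
  have h7 := h6.solvable hc h3
  refine H959.Rad3.not_solvable_of_coprime (k := 1) (n := 13) h1 (by rw [pow_one, pow_two, h3]) h4 (by norm_num) ?_ h7
  intro h8
  apply h2
  have h9 : t = v := by
    have : t = v⁻¹ := eq_inv_of_mul_eq_one_left h8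
    rw [this]
    exact inv_eq_of_mul_eq_one_left h3
  have h10 : t ^ 2 = 1 := by rw [pow_two]; nth_rw 2 [h9]; exact h8
  have h11 : t ^ 3 = t := by rw [pow_succ, h10, one_mul]
  rw [← h11, h1]

end Cfsg.Agent.H933.TitsRadThree

private theorem dce_82d0af51b692 : _root_.True := by
  try have : _root_.True := by simp only [_root_.Cfsg.Agent.H933.TitsRadThree.rl'.eq_1]
  exact _root_.True.intro
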