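import Cfsg.Agent.H933.BigJ3
import Cfsg.Agent.S0312
import Cfsg.Agent.S0314
import Cfsg.Agent.S0315
import Cfsg.Agent.S1027
import Cfsg.Agent.S1035
import Cfsg.Agent.S1036
import Cfsg.Agent.S1042
import Cfsg.Agent.S1059
import Cfsg.Agent.S1062
import Cfsg.Agent.S1063
import Cfsg.Agent.S1064
import Cfsg.Agent.S1065
import Mathlib.LinearAlgebra.Projectivization.Action
import Mathlib.LinearAlgebra.Projectivization.Cardinality
import Mathlib.LinearAlgebra.Center
import Mathlib
import Cfsg.Agent.LieClassical.HermBasic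
import Cfsg.Agent.S0243
import Cfsg.Agent.S0245
import Cfsg.Agent.S0246
import Cfsg.Agent.S0278
import Cfsg.Agent.S0279
import Cfsg.Agent.S0280
import Cfsg.Agent.S0292
import Cfsg.Agent.S0293
import Cfsg.Agent.S0294
import Cfsg.Agent.S0782
import Cfsg.Agent.S1040
import Cfsg.Agent.S1066
import Cfsg.Agent.S1067
import Cfsg.Agent.S1068
import Cfsg.Agent.S1069
import Cfsg.Agent.S1074
import Cfsg.Agent.S1085
import Cfsg.Agent.S1086
import Cfsg.Agent.S1087
import Cfsg.Agent.S1088
import Cfsg.Agent.S1089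
import Cfsg.Agent.S1090
import Cfsg.Agent.S1091
import Cfsg.Agent.S1092
import Cfsg.Agent.S1101
import Cfsg.Agent.S1102
import Cfsg.Agent.S1103
import Cfsg.Agent.S1106
import Cfsg.Agent.S1107
import Cfsg.Agent.S1110
import Cfsg.Agent.S1111
import Cfsg.Agent.S1114
import Cfsg.Agent.S1115
import Cfsg.Agent.S1163
import Cfsg.Agent.S0364
import Cfsg.Agent.SporadicA.MathieuRecog
import Cfsg.Agent.MTwelveType.SylowModel
import Cfsg.Agent.HNType.Simple
import Cfsg.Agent.SporadicB.J1.Main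
import Cfsg.Agent.J2Sylow.SporSylow
import Cfsg.Agent.J2.HundredFinal
import Cfsg.Agent.S0458
import Cfsg.Agent.LeechPack.X100
import Cfsg.Agent.McLType.X275
import Cfsg.Agent.S0394
import Cfsg.Agent.S0397
import Cfsg.Agent.S0398
import Cfsg.Agent.S0399
import Cfsg.Agent.S0400
import Cfsg.Agent.S0402
import Cfsg.Agent.S0403
import Cfsg.Agent.S1567
import Cfsg.Agent.S1680
import Cfsg.Agent.S1683
import Cfsg.Agent.S1687
import Cfsg.Agent.S1689
import Cfsg.Agent.S1690
import Cfsg.Agent.S1691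
import Cfsg.Agent.S1692
import Cfsg.Agent.S1706
import Cfsg.Agent.S1707
import Cfsg.Agent.S1709
import Cfsg.Agent.S1712
import Cfsg.Agent.S1694
import Cfsg.Agent.S1695
import Cfsg.Agent.S1696
import Cfsg.Agent.S1697
import Cfsg.Agent.S1698
import Cfsg.Agent.S1699
import Cfsg.Agent.S1700
import Cfsg.Agent.S1701
import Cfsg.Agent.S1702
import Cfsg.Agent.S1703
import Cfsg.Agent.RuLat.Main
import Cfsg.Agent.BM.KHAll
import Cfsg.Agent.MonsterX.Frames.J8D_m3
import Cfsg.Agent.H850.MonSub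
import Cfsg.Prelude.Def_Classification2
import Cfsg.Agent.Prune
set_option linter.all false

section
prune_inst 0x7ff1ecfcbfb835dfffff7e7ffffadffc3b949fffefdffd4bffe869ff9bdf931a09e5fbad09e050fe0eb6c21c18b87853f9ffceffe26bdc7ffffd5ff45ffbee1fb7efbd0971d79c341f7c6ffffbf0778e7f3fffffffffffffffffffffffffffbeffbdffffffff

-- part: H933/BigChev
section
set_option linter.all false
open scoped Cfsg.Agent.FastGrp

-- part: H933/BigBN
section
/-!
Large subgroups of groups with a (B,N)-pair: the standard parabolic subgroup of a set of `k` distinguished generators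
has order at least `3 ^ k |B|`.
-/

set_option autoImplicit false

namespace Cfsg.Agent.H933

open Cfsg

universe u

namespace BN

variable {G : Type u} [Group G] (P : BNPair G)

theorem parabolic_empty : P.parabolic ∅ = P.B := by
  unfold BNPair.parabolic
  rw [Subgroup.closure_empty, sup_bot_eq]

theorem parabolic_S : P.parabolic P.S = ⊤ := by
  rw [eq_top_iff, ← P.sup_eq_top]
  unfold BNPair.parabolic
  refine sup_le le_sup_left ?_
  rw [← P.closure_sup]
  exact sup_le le_sup_right (inf_le_left.trans le_sup_left)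

theorem parabolic_mono {J K : Set G} (h : J ⊆ K) : P.parabolic J ≤ P.parabolic K :=
  sup_le_sup_left (Subgroup.closure_mono h) _

theorem parabolic_ne_top {J : Set G} (hJ : J ⊆ P.S) (hne : J ≠ P.S) : P.parabolic J ≠ ⊤ := by
  intro h
  apply hne
  exact S0314.result P hJ subset_rfl (by rw [h, parabolic_S])

/-- `|P_s : B| ≥ 3`. -/
theorem three_le_relIndex [Finite G] {s : G} (hs : s ∈ P.S) : 3 ≤ P.B.relIndex (P.parabolic {s}) := by
  have hS : ({s} : Set G) ⊆ P.S := Set.singleton_subset_iff.2 hs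
  have hle : P.B ≤ P.parabolic {s} := le_sup_left
  have h0 : P.B.relIndex (P.parabolic {s}) ≠ 0 := Subgroup.index_ne_zero_of_finite
  have hne : P.B ≠ P.parabolic {s} := by
    intro h
    have h1 : (∅ : Set G) = {s} :=
      S0314.result P (Set.empty_subset _) hS (by rw [parabolic_empty]; exact h)
    exact (Set.singleton_ne_empty s) h1.symm
  have h1 : P.B.relIndex (P.parabolic {s}) ≠ 1 := by
    rw [Ne, Subgroup.relIndex_eq_one]
    intro h
    exact hne (le_antisymm hle h)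
  have h2 : P.B.relIndex (P.parabolic {s}) ≠ 2 := by
    intro h
    have hn : (P.B.subgroupOf (P.parabolic {s})).Normal := Subgroup.normal_of_index_eq_two h
    have h3 : P.parabolic {s} ≤ Subgroup.normalizer (P.B : Set G) :=
      (Subgroup.normal_subgroupOf_iff_le_normalizer hle).1 hn
    have h4 := S0312.result P (Set.empty_subset P.S)
    rw [parabolic_empty] at h4
    rw [h4] at h3
    exact hne (le_antisymm hle h3)
  omega

/-- `|P_J| ≥ 3 ^ |J| |B|`. -/
theorem card_parabolic [Finite G] (J : Finset G) (hJ : (J : Set G) ⊆ P.S) :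
    3 ^ J.card * Nat.card P.B ≤ Nat.card (P.parabolic J) := by
  classical
  induction J using Finset.induction_on with
  | empty => rw [Finset.coe_empty, parabolic_empty, Finset.card_empty, pow_zero, one_mul]
  | insert s J hs ih =>
    have hJ' : (J : Set G) ⊆ P.S := fun x hx => hJ (by rw [Finset.coe_insert]; exact Or.inr hx)
    have hsS : s ∈ P.S := hJ (by rw [Finset.coe_insert]; exact Or.inl rfl)
    have ih' := ih hJ'
    have hS : ({s} : Set G) ⊆ P.S := Set.singleton_subset_iff.2 hsS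
    have h1 : P.parabolic J ≤ P.parabolic (insert s J : Finset G) :=
      parabolic_mono P (by rw [Finset.coe_insert]; exact Set.subset_insert _ _)
    have h2 : P.parabolic {s} ≤ P.parabolic (insert s J : Finset G) :=
      parabolic_mono P (by rw [Finset.coe_insert]; exact Set.singleton_subset_iff.2 (Set.mem_insert _ _))
    have hinf : P.parabolic J ⊓ P.parabolic {s} = P.B := by
      rw [S0315.result P hJ' hS]
      have : (J : Set G) ∩ {s} = ∅ := by
        rw [Set.inter_singleton_eq_empty]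
        exact hs
      rw [this, parabolic_empty]
    have h3 : (P.parabolic J).relIndex (P.parabolic {s}) ≤ (P.parabolic J).relIndex (P.parabolic (insert s J : Finset G)) :=
      Subgroup.relIndex_le_of_le_right h2 Subgroup.index_ne_zero_of_finite
    have h4 : (P.parabolic J).relIndex (P.parabolic {s}) = P.B.relIndex (P.parabolic {s}) := by
      rw [← hinf, Subgroup.inf_relIndex_right]
    have h5 := three_le_relIndex P hsS
    have h6 : (P.parabolic J).relIndex (P.parabolic (insert s J : Finset G)) * Nat.card (P.parabolic J) =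
        Nat.card (P.parabolic (insert s J : Finset G)) := by
      have := Subgroup.card_mul_index ((P.parabolic J).subgroupOf (P.parabolic (insert s J : Finset G)))
      rw [Nat.card_congr (Subgroup.subgroupOfEquivOfLe h1).toEquiv] at this
      rw [mul_comm]
      exact this
    rw [Finset.card_insert_of_notMem hs, pow_succ]
    calc 3 ^ J.card * 3 * Nat.card P.B = 3 * (3 ^ J.card * Nat.card P.B) := by ring
      _ ≤ (P.parabolic J).relIndex (P.parabolic (insert s J : Finset G)) * Nat.card (P.parabolic J) := by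
        apply Nat.mul_le_mul
        · omega
        · exact ih'
      _ = _ := h6

/-- There is a proper subgroup of order at least `3 ^ k |B|` when there are more than `k` distinguished generators. -/
theorem exists_proper [Finite G] {k : ℕ} (hk : k < P.S.ncard) :
    ∃ J : Finset G, (J : Set G) ⊆ P.S ∧ (J : Set G) ≠ P.S ∧ 3 ^ k * Nat.card P.B ≤ Nat.card (P.parabolic J) := by
  have hfin : P.S.Finite := Set.toFinite _
  obtain ⟨T, hT, hTk⟩ := Set.exists_subset_card_eq hk.le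
  have hTf : T.Finite := hfin.subset hT
  refine ⟨hTf.toFinset, by rw [Set.Finite.coe_toFinset]; exact hT, ?_, ?_⟩
  · rw [Set.Finite.coe_toFinset]
    rintro rfl
    omega
  · have := card_parabolic P hTf.toFinset (by rw [Set.Finite.coe_toFinset]; exact hT)
    rwa [← Set.ncard_eq_toFinset_card, hTk] at this

end BN

theorem Big.of_bnPair {G : Type u} [Group G] [Finite G] (P : BNPair G) {k b N : ℕ} (hk : k < P.S.ncard)
    (hb : b ≤ Nat.card P.B) (hN : Nat.card G = N) (h : N < (3 ^ k * b) ^ 2) : Big G := by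
  obtain ⟨J, hJ, hne, hc⟩ := BN.exists_proper P hk
  refine Big.of_le_card (H := P.parabolic J) (BN.parabolic_ne_top P hJ hne)
    (n := 3 ^ k * b) (le_trans (Nat.mul_le_mul_left _ hb) hc) hN ?_ h
  rw [← hN]
  exact Nat.card_pos

end Cfsg.Agent.H933
end

-- part: H933/BigChev
section
/-!
Large subgroups of the Chevalley groups of exceptional type.
-/

set_option autoImplicit false

namespace Cfsg.Agent.H933

open Cfsg Cfsg.Lie

universe u

/-- `|U| |H| ≤ |UH|` when `U ∩ H = 1`. -/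
theorem card_mul_le {G : Type*} [Group G] {U H B : Subgroup G} (hU : U ≤ B) (hH : H ≤ B) (hUH : U ⊓ H = ⊥)
    [Finite B] : Nat.card U * Nat.card H ≤ Nat.card B := by
  rw [← Nat.card_prod]
  refine Nat.card_le_card_of_injective (fun p : U × H => (⟨(p.1 : G) * p.2, B.mul_mem (hU p.1.2) (hH p.2.2)⟩ : B)) ?_
  intro p q hpq
  have h := congrArg Subtype.val hpq
  exact Subgroup.mul_injective_of_disjoint (disjoint_iff.2 hUH) h

/-- The arithmetic behind the Chevalley groups. -/
theorem chev_arith {q g h d r N : ℕ} (hq : 2 ≤ q) (hd : 0 < d) (hg : d * g ≤ q ^ (2 * N + r))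
    (hh : d * h = (q - 1) ^ r) (hc : d * 2 ^ r < 9 ^ (r - 1)) : g < (3 ^ (r - 1) * (q ^ N * h)) ^ 2 := by
  have hd2 : 0 < d ^ 2 := by positivity
  apply lt_of_mul_lt_mul_left _ (Nat.zero_le (d ^ 2))
  have h1 : d ^ 2 * (3 ^ (r - 1) * (q ^ N * h)) ^ 2 = 9 ^ (r - 1) * q ^ (2 * N) * ((q - 1) ^ r) ^ 2 := by
    rw [← hh]
    have : (9 : ℕ) = 3 ^ 2 := by norm_num
    rw [this, ← pow_mul, mul_comm 2 (r - 1), pow_mul 3, mul_comm 2 N, pow_mul q]
    ring
  have h2 : q ≤ 2 * (q - 1) := by omega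
  have h3 : q ^ r ≤ 2 ^ r * (q - 1) ^ r := by
    rw [← mul_pow]
    exact Nat.pow_le_pow_left h2 r
  have hpos : 0 < (q - 1) ^ r := Nat.pow_pos (by omega)
  rw [h1]
  calc d ^ 2 * g = d * (d * g) := by ring
    _ ≤ d * q ^ (2 * N + r) := Nat.mul_le_mul_left _ hg
    _ = d * (q ^ (2 * N) * q ^ r) := by rw [pow_add]
    _ ≤ d * (q ^ (2 * N) * (2 ^ r * (q - 1) ^ r)) := by gcongr
    _ = (d * 2 ^ r) * (q ^ (2 * N) * (q - 1) ^ r) := by ring
    _ < 9 ^ (r - 1) * (q ^ (2 * N) * (q - 1) ^ r) := by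
      apply Nat.mul_lt_mul_of_pos_right hc
      positivity
    _ = 9 ^ (r - 1) * q ^ (2 * N) * ((q - 1) ^ r * 1) := by ring
    _ ≤ 9 ^ (r - 1) * q ^ (2 * N) * ((q - 1) ^ r * (q - 1) ^ r) := by
      gcongr
      exact hpos
    _ = _ := by ring

/-- Chevalley groups in general, from the order formula. -/
theorem big_chev {F : Type} [Field F] [Fintype F] (D : ChevalleyDatum)
    (hD : D ∈ [chevG2, chevB2, chevD4, chevF4, chevE6, chevE7, chevE8]) {d N r : ℕ}
    (hN : D.nroots / 2 = N) (hr : D.rank = r) (hr0 : 0 < r) (hd : 0 < d)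
    (hH : d * Nat.card (D.diagonalSubgroup F) = (Fintype.card F - 1) ^ D.rank)
    (hg : d * Nat.card (D.group F) ≤ Fintype.card F ^ (2 * N + r)) (hc : d * 2 ^ r < 9 ^ (r - 1)) :
    Big (D.group F) := by
  obtain ⟨P, hB, -, hS⟩ := S1042.result (F := F) D hD
  have hq : 2 ≤ Fintype.card F := Fintype.one_lt_card
  have hfin : Finite (D.group F) := inferInstance
  have hncard : P.S.ncard = r := by
    have h1 : P.S = Set.range (S1042.nn hD F) := by
      rw [hS]
      ext g
      constructor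
      · rintro ⟨i, hi, hg⟩
        exact ⟨⟨i, hi⟩, Subtype.ext ((Cfsg.Agent.ChevalleyStructure.Elts.eq_nG_iff hD _ _ _).2 hg).symm⟩
      · rintro ⟨i, rfl⟩
        exact ⟨i, i.2, Cfsg.Agent.ChevalleyStructure.Elts.coe_nG hD _ _⟩
    rw [h1, ← Set.image_univ, Set.ncard_image_of_injective, Set.ncard_univ, Nat.card_eq_fintype_card,
      Fintype.card_fin, hr]
    intro i j hij
    have h2 : (S1042.nn hD F i : GL D.Idx F) = S1042.nn hD F j := congrArg Subtype.val hij
    rw [S1042.coe_nn, S1042.coe_nn] at h2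
    apply Fin.ext
    apply S1042.eq_of_inv_mul_mem (F := F) hD i.2 j.2
    rw [h2, inv_mul_cancel]
    exact one_mem _
  refine Big.of_bnPair P (k := r - 1) (b := Fintype.card F ^ N * Nat.card (D.diagonalSubgroup F)) (by omega) ?_ rfl
    (chev_arith hq hd hg (by rw [hH, hr]) hc)
  have hle : D.borelSubgroup F ≤ D.group F := (S1043.result (F := F) D hD).1
  rw [hB, Nat.card_congr (Subgroup.subgroupOfEquivOfLe hle).toEquiv, ← hN, ← S1027.result D hD]
  have hfB : Finite (D.borelSubgroup F) := inferInstance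
  exact card_mul_le le_sup_left le_sup_right (S1036.result (F := F) D hD).2

theorem big_G2 {G : Type u} [Group G] (h : IsoChevG2 G) : Big G := by
  obtain ⟨F, _, _, -, e⟩ := h
  refine Big.of_nonempty e (big_chev (N := 6) (r := 2) (d := 1) chevG2 (by simp) (by decide) (by decide) (by norm_num)
    (by norm_num) (S1035.result rfl (chevG2, 1) (by simp)) ?_ (by norm_num))
  rw [S1059.result rfl, one_mul]
  calc Fintype.card F ^ 6 * (Fintype.card F ^ 2 - 1) * (Fintype.card F ^ 6 - 1)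
      ≤ Fintype.card F ^ 6 * (Fintype.card F ^ 2) * (Fintype.card F ^ 6) := by
        gcongr <;> exact Nat.sub_le _ _
    _ = _ := by ring

theorem big_F4 {G : Type u} [Group G] (h : IsoF4 G) : Big G := by
  obtain ⟨F, _, _, e⟩ := h
  refine Big.of_nonempty e (big_chev (N := 24) (r := 4) (d := 1) chevF4 (by simp) (by decide) (by decide) (by norm_num)
    (by norm_num) (S1035.result rfl (chevF4, 1) (by simp)) ?_ (by norm_num))
  rw [S1062.result rfl, one_mul]
  calc Fintype.card F ^ 24 * (Fintype.card F ^ 2 - 1) * (Fintype.card F ^ 6 - 1) * (Fintype.card F ^ 8 - 1) *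
        (Fintype.card F ^ 12 - 1)
      ≤ Fintype.card F ^ 24 * (Fintype.card F ^ 2) * (Fintype.card F ^ 6) * (Fintype.card F ^ 8) *
        (Fintype.card F ^ 12) := by
        gcongr <;> exact Nat.sub_le _ _
    _ = _ := by ring

theorem gcd_le' {a b : ℕ} (ha : 0 < a) : 0 < Nat.gcd a b ∧ Nat.gcd a b ≤ a :=
  ⟨Nat.gcd_pos_of_pos_left _ ha, Nat.le_of_dvd ha (Nat.gcd_dvd_left _ _)⟩

theorem big_E6 {G : Type u} [Group G] (h : IsoChevE6 G) : Big G := by
  obtain ⟨F, _, _, e⟩ := h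
  obtain ⟨h1, h2⟩ := gcd_le' (a := 3) (b := Fintype.card F - 1) (by norm_num)
  refine Big.of_nonempty e (big_chev (N := 36) (r := 6) (d := Nat.gcd 3 (Fintype.card F - 1)) chevE6 (by simp)
    (by decide) (by decide) (by norm_num) h1
    (S1035.result rfl (chevE6, Nat.gcd 3 (Fintype.card F - 1)) (by simp)) ?_
    (lt_of_le_of_lt (Nat.mul_le_mul_right _ h2) (by norm_num)))
  rw [S1063.result rfl]
  calc Fintype.card F ^ 36 * (Fintype.card F ^ 2 - 1) * (Fintype.card F ^ 5 - 1) * (Fintype.card F ^ 6 - 1) *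
        (Fintype.card F ^ 8 - 1) * (Fintype.card F ^ 9 - 1) * (Fintype.card F ^ 12 - 1)
      ≤ Fintype.card F ^ 36 * (Fintype.card F ^ 2) * (Fintype.card F ^ 5) * (Fintype.card F ^ 6) *
        (Fintype.card F ^ 8) * (Fintype.card F ^ 9) * (Fintype.card F ^ 12) := by
        gcongr <;> exact Nat.sub_le _ _
    _ = _ := by ring

theorem big_E7 {G : Type u} [Group G] (h : IsoE7 G) : Big G := by
  obtain ⟨F, _, _, e⟩ := h
  obtain ⟨h1, h2⟩ := gcd_le' (a := 2) (b := Fintype.card F - 1) (by norm_num)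
  refine Big.of_nonempty e (big_chev (N := 63) (r := 7) (d := Nat.gcd 2 (Fintype.card F - 1)) chevE7 (by simp)
    (by decide) (by decide) (by norm_num) h1
    (S1035.result rfl (chevE7, Nat.gcd 2 (Fintype.card F - 1)) (by simp)) ?_
    (lt_of_le_of_lt (Nat.mul_le_mul_right _ h2) (by norm_num)))
  rw [S1064.result rfl]
  calc Fintype.card F ^ 63 * (Fintype.card F ^ 2 - 1) * (Fintype.card F ^ 6 - 1) * (Fintype.card F ^ 8 - 1) *
        (Fintype.card F ^ 10 - 1) * (Fintype.card F ^ 12 - 1) * (Fintype.card F ^ 14 - 1) * (Fintype.card F ^ 18 - 1)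
      ≤ Fintype.card F ^ 63 * (Fintype.card F ^ 2) * (Fintype.card F ^ 6) * (Fintype.card F ^ 8) *
        (Fintype.card F ^ 10) * (Fintype.card F ^ 12) * (Fintype.card F ^ 14) * (Fintype.card F ^ 18) := by
        gcongr <;> exact Nat.sub_le _ _
    _ = _ := by ring

theorem big_E8 {G : Type u} [Group G] (h : IsoE8 G) : Big G := by
  obtain ⟨F, _, _, e⟩ := h
  refine Big.of_nonempty e (big_chev (N := 120) (r := 8) (d := 1) chevE8 (by simp)
    (by decide) (by decide) (by norm_num) (by norm_num)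
    (S1035.result rfl (chevE8, 1) (by simp)) ?_ (by norm_num))
  rw [S1065.result rfl, one_mul]
  calc Fintype.card F ^ 120 * (Fintype.card F ^ 2 - 1) * (Fintype.card F ^ 8 - 1) * (Fintype.card F ^ 12 - 1) *
        (Fintype.card F ^ 14 - 1) * (Fintype.card F ^ 18 - 1) * (Fintype.card F ^ 20 - 1) *
        (Fintype.card F ^ 24 - 1) * (Fintype.card F ^ 30 - 1)
      ≤ Fintype.card F ^ 120 * (Fintype.card F ^ 2) * (Fintype.card F ^ 8) * (Fintype.card F ^ 12) *
        (Fintype.card F ^ 14) * (Fintype.card F ^ 18) * (Fintype.card F ^ 20) *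
        (Fintype.card F ^ 24) * (Fintype.card F ^ 30) := by
        gcongr <;> exact Nat.sub_le _ _
    _ = _ := by ring

end Cfsg.Agent.H933
end
end

-- part: H933/BigKnown
section
prune_inst 0x2000000000000000000000080000100000000000000000000000000000000000000000000004010000000000000000000000000000000000000000000000000000000000000000200000000
set_option linter.all false
open scoped Cfsg.Agent.FastGrp

-- part: H933/BigLinear
section
/-!
Large subgroups of central quotients of linear groups: the stabiliser of a line.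
-/

set_option autoImplicit false

namespace Cfsg.Agent.H933

open scoped LinearAlgebra.Projectivization

/-- The centre cannot fill up a subgroup whose index exceeds the order of the centre. -/
theorem sup_center_ne_top' {X : Type*} [Group X] [Finite X] (H : Subgroup X)
    (h : Nat.card (Subgroup.center X) < H.index) : H ⊔ Subgroup.center X ≠ ⊤ := by
  intro htop
  apply absurd h
  rw [not_lt]
  have hsurj : Function.Surjective (fun z : Subgroup.center X => ((z : X) : X ⧸ H)) := by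
    intro y
    obtain ⟨g, rfl⟩ := QuotientGroup.mk_surjective y
    have hg : g ∈ H ⊔ Subgroup.center X := by rw [htop]; trivial
    obtain ⟨s, hs, z, hz, rfl⟩ := Subgroup.mem_sup_of_normal_right.1 hg
    refine ⟨⟨z, hz⟩, ?_⟩
    rw [QuotientGroup.eq]
    change z⁻¹ * (s * z) ∈ H
    rw [Subgroup.mem_center_iff.1 hz s, inv_mul_cancel_left]
    exact hs
  exact Nat.card_le_card_of_surjective _ hsurj

/-- If all stabilisers together with the centre are everything, commutators fix all points. -/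
theorem comm_fix {X : Type*} [Group X] {Ω : Type*} [MulAction X Ω] (D : Ω)
    (h : MulAction.stabilizer X D ⊔ Subgroup.center X = ⊤) (x y : X) : (x * y) • D = (y * x) • D := by
  have key : ∀ g : X, ∃ z ∈ Subgroup.center X, g • D = z • D := by
    intro g
    have hg : g ∈ MulAction.stabilizer X D ⊔ Subgroup.center X := by rw [h]; trivial
    obtain ⟨s, hs, z, hz, rfl⟩ := Subgroup.mem_sup_of_normal_right.1 hg
    refine ⟨z, hz, ?_⟩
    rw [Subgroup.mem_center_iff.1 hz s, mul_smul, show s • D = D from hs]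
  obtain ⟨z, hz, hxz⟩ := key x
  obtain ⟨w, hw, hyw⟩ := key y
  rw [mul_smul, mul_smul, hyw, hxz, ← mul_smul, ← mul_smul, Subgroup.mem_center_iff.1 hw x, mul_smul w x, hxz,
    Subgroup.mem_center_iff.1 hz y, mul_smul z y, hyw, ← mul_smul, ← mul_smul, Subgroup.mem_center_iff.1 hz w]

/-- Central quotients of linear groups: if the number of lines is small, the stabiliser of a suitable line is large. -/
theorem big_projective {X : Type*} [Group X] [Finite X] {K V : Type*} [Field K] [Finite K] [AddCommGroup V] [Module K V]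
    [Finite V] (ρ : X →* Module.End K V) (hρ : Function.Injective ρ)
    (hna : ¬ ∀ a b : X ⧸ Subgroup.center X, a * b = b * a)
    (h : Nat.card (ℙ K V) ^ 2 < Nat.card (X ⧸ Subgroup.center X)) : Big (X ⧸ Subgroup.center X) := by
  let _ : DistribMulAction X V := DistribMulAction.compHom V ρ
  have hsmul : ∀ (x : X) (v : V), x • v = ρ x v := fun _ _ => rfl
  have _ : SMulCommClass X K V := ⟨fun x c v => by rw [hsmul, hsmul, map_smul]⟩
  have hfin : Finite (ℙ K V) := (Projectivization.finite_iff_of_finite K V).2 inferInstance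
  have key : ∃ D : ℙ K V, MulAction.stabilizer X D ⊔ Subgroup.center X ≠ ⊤ := by
    by_contra hcon
    push Not at hcon
    apply hna
    intro a b
    obtain ⟨x, rfl⟩ := QuotientGroup.mk_surjective a
    obtain ⟨y, rfl⟩ := QuotientGroup.mk_surjective b
    rw [← QuotientGroup.mk_mul, ← QuotientGroup.mk_mul, eq_comm, QuotientGroup.eq]
    -- `g = (y x)⁻¹ (x y)` acts as a scalar
    have hfix : ∀ D : ℙ K V, ((y * x)⁻¹ * (x * y)) • D = D := by
      intro D
      rw [mul_smul, comm_fix D (hcon D) x y, inv_smul_smul]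
    set g := (y * x)⁻¹ * (x * y) with hg
    have hdep : ∀ v : V, ¬ LinearIndependent K ![v, ρ g v] := by
      intro v hv
      have hv0 : v ≠ 0 := by
        have := hv.ne_zero 0
        simpa using this
      have h1 := hfix (Projectivization.mk K v hv0)
      rw [Projectivization.smul_mk, Projectivization.mk_eq_mk_iff'] at h1
      obtain ⟨c, hc⟩ := h1
      rw [LinearIndependent.pair_iff] at hv
      have h2 := hv c (-1) (by rw [hc, hsmul]; simp)
      exact absurd h2.2 (by simp)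
    obtain ⟨c, hc⟩ := LinearMap.exists_eq_smul_id_of_forall_notLinearIndependent hdep
    rw [Subgroup.mem_center_iff]
    intro k
    apply hρ
    rw [map_mul ρ k g, map_mul ρ g k, hc]
    simp only [_root_.Algebra.mul_smul_comm, _root_.mul_one, _root_.Algebra.smul_mul_assoc, _root_.one_mul]
  obtain ⟨D, hD⟩ := key
  have hidx : (MulAction.stabilizer X D).index ≤ Nat.card (ℙ K V) := by
    rw [MulAction.index_stabilizer]
    exact Set.ncard_le_card _
  exact Big.of_quotient hD hidx Subgroup.index_ne_zero_of_finite h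

/-- The matrix version. -/
theorem big_matrix {X : Type*} [Group X] [Finite X] {ι : Type} [Fintype ι] [DecidableEq ι] {F : Type} [Field F]
    [Fintype F] (ρ : X →* Matrix ι ι F) (hρ : Function.Injective ρ)
    (hna : ¬ ∀ a b : X ⧸ Subgroup.center X, a * b = b * a) {n : ℕ} (hn : Nat.card (ℙ F (ι → F)) ≤ n)
    (h : n ^ 2 < Nat.card (X ⧸ Subgroup.center X)) : Big (X ⧸ Subgroup.center X) := by
  refine big_projective (K := F) (V := ι → F)
    (((Matrix.toLinAlgEquiv' : Matrix ι ι F ≃ₐ[F] Module.End F (ι → F)) : Matrix ι ι F →* Module.End F (ι → F)).comp ρ)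
    ?_ hna (lt_of_le_of_lt (Nat.pow_le_pow_left hn 2) h)
  intro a b hab
  exact hρ ((Matrix.toLinAlgEquiv' : Matrix ι ι F ≃ₐ[F] Module.End F (ι → F)).injective hab)

/-- The number of lines of `F ^ ι`: at most `2 q ^ (d - 1)`, and it times `q - 1` is `q ^ d - 1`. -/
theorem card_lines {ι : Type} [Fintype ι] {F : Type} [Field F] [Fintype F] {d : ℕ} (hd : Fintype.card ι = d) :
    Nat.card (ℙ F (ι → F)) * (Fintype.card F - 1) = Fintype.card F ^ d - 1 := by
  have h := Projectivization.card F (ι → F)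
  rw [Nat.card_fun, Nat.card_eq_fintype_card (α := F), Nat.card_eq_fintype_card (α := ι), hd] at h
  exact h.symm

theorem card_lines_le {ι : Type} [Fintype ι] {F : Type} [Field F] [Fintype F] {d : ℕ} (hd : Fintype.card ι = d + 1) :
    Nat.card (ℙ F (ι → F)) ≤ 2 * Fintype.card F ^ d := by
  have h := card_lines (F := F) hd
  have hq : 2 ≤ Fintype.card F := Fintype.one_lt_card
  set q := Fintype.card F
  have h1 : q ≤ 2 * (q - 1) := by omega
  apply Nat.le_of_mul_le_mul_right (c := q - 1) _ (by omega)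
  rw [h]
  calc q ^ (d + 1) - 1 ≤ q ^ (d + 1) := Nat.sub_le _ _
    _ = q ^ d * q := pow_succ _ _
    _ ≤ q ^ d * (2 * (q - 1)) := Nat.mul_le_mul_left _ h1
    _ = 2 * q ^ d * (q - 1) := by ring

end Cfsg.Agent.H933
end

-- part: H933/BigArith
section
/-!
Arithmetic for the classical groups: the square of the number of lines is smaller than the order.
-/

set_option autoImplicit false

namespace Cfsg.Agent.H933.Arith

/-- `PSL₂`. -/
theorem psl_two {q d g N : ℕ} (hq : 4 ≤ q) (hd : d = Nat.gcd 2 (q - 1)) (hN : N * (q - 1) = q ^ 2 - 1)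
    (hg : d * ((q - 1) * g) = (q ^ 2 - 1) * (q ^ 2 - q)) : N ^ 2 < g := by
  obtain ⟨a, rfl⟩ : ∃ a, q = a + 1 := ⟨q - 1, by omega⟩
  have e0 : a + 1 - 1 = a := rfl
  have e1 : (a + 1) ^ 2 - 1 = (a + 2) * a := by
    have : (a + 1) ^ 2 = (a + 2) * a + 1 := by ring
    omega
  have e2 : (a + 1) ^ 2 - (a + 1) = (a + 1) * a := by
    have : (a + 1) ^ 2 = (a + 1) * a + (a + 1) := by ring
    omega
  rw [e0] at hN hg hd
  rw [e1] at hN
  rw [e1, e2] at hg
  have hNa : N = a + 2 := Nat.eq_of_mul_eq_mul_right (by omega : 0 < a) hN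
  have hg' : d * g = (a + 2) * ((a + 1) * a) := by
    apply Nat.eq_of_mul_eq_mul_left (by omega : 0 < a)
    calc a * (d * g) = d * (a * g) := by ring
      _ = (a + 2) * a * ((a + 1) * a) := hg
      _ = _ := by ring
  have hd2 : d ≤ 2 := by rw [hd]; exact Nat.le_of_dvd (by norm_num) (Nat.gcd_dvd_left _ _)
  have hd0 : 0 < d := by rw [hd]; exact Nat.gcd_pos_of_pos_left _ (by norm_num)
  rw [hNa]
  rcases Nat.lt_or_ge a 4 with h4 | h4
  · have ha : a = 3 := by omega
    subst ha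
    have : d = 1 := by rw [hd]; rfl
    subst this
    omega
  · apply lt_of_mul_lt_mul_left _ (Nat.zero_le d)
    rw [hg']
    calc d * (a + 2) ^ 2 ≤ 2 * (a + 2) ^ 2 := Nat.mul_le_mul_right _ hd2
      _ = (a + 2) * (2 * (a + 2)) := by ring
      _ < (a + 2) * ((a + 1) * a) := Nat.mul_lt_mul_of_pos_left (by nlinarith only [h4]) (by omega)

/-- `PSLₙ`, `n ≥ 3`. -/
theorem psl {q d g N k : ℕ} (hq : 2 ≤ q) (hd : d ≤ q - 1) (hN : N ≤ 2 * q ^ (k + 2))
    (hg : d * ((q - 1) * g) = ∏ i : Fin (k + 3), (q ^ (k + 3) - q ^ (i : ℕ))) : N ^ 2 < g := by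
  rw [Fin.prod_univ_eq_prod_range (fun i => q ^ (k + 3) - q ^ i) (k + 3), Finset.prod_range_succ,
    Finset.prod_range_succ', Finset.prod_range_succ'] at hg
  have hR : 1 ≤ ∏ i ∈ Finset.range k, (q ^ (k + 3) - q ^ (i + 1 + 1)) := by
    apply Nat.one_le_iff_ne_zero.2
    apply Finset.prod_ne_zero_iff.2
    intro i hi
    rw [Finset.mem_range] at hi
    have : q ^ (i + 1 + 1) < q ^ (k + 3) := Nat.pow_lt_pow_right (by omega) (by omega)
    omega
  set R := ∏ i ∈ Finset.range k, (q ^ (k + 3) - q ^ (i + 1 + 1))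
  have hpos : 0 < q ^ (k + 2) := Nat.pow_pos (by omega)
  have e0 : q ^ (k + 2) * (q - 1) ≤ q ^ (k + 3) - q ^ 0 := by
    have : q ^ (k + 2) * (q - 1) = q ^ (k + 3) - q ^ (k + 2) := by
      rw [Nat.mul_sub, mul_one, ← pow_succ]
    rw [this]
    exact Nat.sub_le_sub_left (Nat.pow_le_pow_right (by omega) (by omega)) _
  have e1 : 4 < q ^ (k + 3) - q ^ (0 + 1) := by
    have h1 : q ^ 3 ≤ q ^ (k + 3) := Nat.pow_le_pow_right (by omega) (by omega)
    have h2 : q * 4 ≤ q ^ 3 := by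
      have : 2 ^ 2 ≤ q ^ 2 := Nat.pow_le_pow_left hq 2
      calc q * 4 ≤ q * q ^ 2 := Nat.mul_le_mul_left _ this
        _ = q ^ 3 := by ring
    rw [zero_add, pow_one]
    omega
  have e2 : q ^ (k + 3) - q ^ (k + 2) = q ^ (k + 2) * (q - 1) := by
    rw [Nat.mul_sub, mul_one, ← pow_succ]
  rw [e2] at hg
  have hd0 : 0 < (q - 1) := by omega
  have hmain : d * ((q - 1) * N ^ 2) < d * ((q - 1) * g) := by
    rw [hg]
    have hN2 : N ^ 2 ≤ 4 * (q ^ (k + 2)) ^ 2 := by
      calc N ^ 2 ≤ (2 * q ^ (k + 2)) ^ 2 := Nat.pow_le_pow_left hN 2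
        _ = _ := by ring
    calc d * ((q - 1) * N ^ 2) ≤ (q - 1) * ((q - 1) * (4 * (q ^ (k + 2)) ^ 2)) := by gcongr
      _ = (q ^ (k + 2) * (q - 1)) * (q ^ (k + 2) * (q - 1)) * 4 := by ring
      _ < (q ^ (k + 2) * (q - 1)) * (q ^ (k + 2) * (q - 1)) * (q ^ (k + 3) - q ^ (0 + 1)) := by
          apply Nat.mul_lt_mul_of_pos_left e1
          positivity
      _ ≤ (q ^ (k + 2) * (q - 1)) * (q ^ (k + 3) - q ^ 0) * (q ^ (k + 3) - q ^ (0 + 1)) := by gcongr
      _ = 1 * (q ^ (k + 3) - q ^ (0 + 1)) * (q ^ (k + 3) - q ^ 0) * (q ^ (k + 2) * (q - 1)) := by ring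
      _ ≤ R * (q ^ (k + 3) - q ^ (0 + 1)) * (q ^ (k + 3) - q ^ 0) * (q ^ (k + 2) * (q - 1)) := by gcongr
  exact lt_of_mul_lt_mul_left (lt_of_mul_lt_mul_left hmain (Nat.zero_le _)) (Nat.zero_le _)

theorem one_le_prod {q m : ℕ} (hq : 2 ≤ q) : 1 ≤ ∏ i ∈ Finset.range m, (q ^ (2 * (i + 1)) - 1) := by
  apply Nat.one_le_iff_ne_zero.2
  apply Finset.prod_ne_zero_iff.2
  intro i _
  have : 1 < q ^ (2 * (i + 1)) := Nat.one_lt_pow (by omega) (by omega)
  omega

theorem pow_sub_one_ge {q k : ℕ} (hq : 2 ≤ q) : q ^ k ≤ q ^ (k + 1) - 1 := by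
  have h1 : 1 ≤ q ^ k := Nat.one_le_pow _ _ (by omega)
  have h2 : q ^ (k + 1) = q ^ k * q := pow_succ _ _
  have h3 : q ^ k * 2 ≤ q ^ k * q := Nat.mul_le_mul_left _ hq
  omega

/-- `PSp₄`, `q ≥ 3`. -/
theorem psp_two {q d s g N : ℕ} (hq : 3 ≤ q) (hd : d ≤ 2) (hN : N ≤ 2 * q ^ 3)
    (hs : s = q ^ (2 ^ 2) * ∏ i ∈ Finset.range 2, (q ^ (2 * (i + 1)) - 1)) (hg : d * g = s) : N ^ 2 < g := by
  apply lt_of_mul_lt_mul_left _ (Nat.zero_le d)
  rw [hg, hs, Finset.prod_range_succ, Finset.prod_range_succ, Finset.prod_range_zero, one_mul]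
  have h1 : q ^ 3 ≤ q ^ (2 * (1 + 1)) - 1 := pow_sub_one_ge (k := 3) (by omega)
  have h2 : q ^ 2 ≤ 2 * (q ^ (2 * (0 + 1)) - 1) := by
    have : 3 ^ 2 ≤ q ^ 2 := Nat.pow_le_pow_left hq 2
    have e : q ^ (2 * (0 + 1)) = q ^ 2 := by norm_num
    omega
  have h3 : 27 ≤ q ^ 3 := by
    calc 27 = 3 ^ 3 := by norm_num
      _ ≤ q ^ 3 := Nat.pow_le_pow_left hq 3
  have hpos : 0 < q ^ 6 := Nat.pow_pos (by omega)
  apply lt_of_mul_lt_mul_left _ (Nat.zero_le 2)
  calc 2 * (d * N ^ 2) ≤ 2 * (2 * (2 * q ^ 3) ^ 2) := by gcongr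
    _ = q ^ 6 * 16 := by ring
    _ < q ^ 6 * 27 := Nat.mul_lt_mul_of_pos_left (by norm_num) hpos
    _ ≤ q ^ 6 * q ^ 3 := Nat.mul_le_mul_left _ h3
    _ = q ^ (2 ^ 2) * (q ^ 2 * q ^ 3) := by ring
    _ ≤ q ^ (2 ^ 2) * ((2 * (q ^ (2 * (0 + 1)) - 1)) * (q ^ (2 * (1 + 1)) - 1)) := by gcongr
    _ = _ := by ring

/-- `PSp₂ₘ`, `m ≥ 3`. -/
theorem psp {q d s g N k : ℕ} (hq : 2 ≤ q) (hd : d ≤ 2) (hN : N ≤ 2 * q ^ (2 * k + 5))
    (hs : s = q ^ ((k + 3) ^ 2) * ∏ i ∈ Finset.range (k + 3), (q ^ (2 * (i + 1)) - 1)) (hg : d * g = s) :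
    N ^ 2 < g := by
  apply lt_of_mul_lt_mul_left _ (Nat.zero_le d)
  rw [hg, hs, Finset.prod_range_succ]
  have h1 : q ^ (2 * k + 5) ≤ q ^ (2 * (k + 2 + 1)) - 1 := pow_sub_one_ge (k := 2 * k + 5) hq
  have h0 := one_le_prod (m := k + 2) hq
  have h8 : 8 ≤ q ^ 3 := Nat.pow_le_pow_left (n := 2) hq 3
  calc d * N ^ 2 ≤ 2 * (2 * q ^ (2 * k + 5)) ^ 2 := by gcongr
    _ = 8 * q ^ (4 * k + 10) := by ring
    _ ≤ q ^ 3 * q ^ (4 * k + 10) := Nat.mul_le_mul_right _ h8
    _ = q ^ (4 * k + 13) := by ring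
    _ < q ^ ((k + 3) ^ 2 + (2 * k + 5)) := Nat.pow_lt_pow_right (by omega) (by nlinarith only [])
    _ = q ^ ((k + 3) ^ 2) * (1 * q ^ (2 * k + 5)) := by rw [pow_add, one_mul]
    _ ≤ _ := by gcongr

/-- `PΩ₂ₘ₊₁`, `m ≥ 3`, `q ≥ 3`. -/
theorem pomega_odd {q g N k : ℕ} (hq : 3 ≤ q) (hN : N ≤ 2 * q ^ (2 * k + 6))
    (hg : 2 * g = q ^ ((k + 3) ^ 2) * ∏ i ∈ Finset.range (k + 3), (q ^ (2 * (i + 1)) - 1)) : N ^ 2 < g := by
  apply lt_of_mul_lt_mul_left _ (Nat.zero_le 2)
  rw [hg, Finset.prod_range_succ, Finset.prod_range_succ]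
  have h1 : q ^ (2 * k + 5) ≤ q ^ (2 * (k + 2 + 1)) - 1 := pow_sub_one_ge (k := 2 * k + 5) (by omega)
  have h2 : q ^ (2 * k + 3) ≤ q ^ (2 * (k + 1 + 1)) - 1 := pow_sub_one_ge (k := 2 * k + 3) (by omega)
  have h0 := one_le_prod (q := q) (m := k + 1) (by omega)
  have h8 : 8 ≤ q ^ 2 := le_trans (by norm_num) (Nat.pow_le_pow_left hq 2)
  calc 2 * N ^ 2 ≤ 2 * (2 * q ^ (2 * k + 6)) ^ 2 := by gcongr
    _ = 8 * q ^ (4 * k + 12) := by ring
    _ ≤ q ^ 2 * q ^ (4 * k + 12) := Nat.mul_le_mul_right _ h8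
    _ = q ^ (4 * k + 14) := by ring
    _ < q ^ ((k + 3) ^ 2 + (4 * k + 8)) := Nat.pow_lt_pow_right (by omega) (by nlinarith only [])
    _ = q ^ ((k + 3) ^ 2) * (1 * q ^ (2 * k + 3) * q ^ (2 * k + 5)) := by rw [pow_add]; ring
    _ ≤ _ := by gcongr

/-- `PΩ^±₂ₘ`, `m ≥ 4`. -/
theorem pomega_even {q d e g N k : ℕ} (hq : 2 ≤ q) (hd : d ≤ 4) (hN : N ≤ 2 * q ^ (2 * k + 7))
    (he : q ^ (k + 3) ≤ e)
    (hg : d * g = q ^ ((k + 4) * (k + 4 - 1)) * e * ∏ i ∈ Finset.range (k + 4 - 1), (q ^ (2 * (i + 1)) - 1)) :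
    N ^ 2 < g := by
  apply lt_of_mul_lt_mul_left _ (Nat.zero_le d)
  have e3 : k + 4 - 1 = k + 2 + 1 := rfl
  rw [e3] at hg
  rw [hg, Finset.prod_range_succ]
  have h1 : q ^ (2 * k + 5) ≤ q ^ (2 * (k + 2 + 1)) - 1 := pow_sub_one_ge (k := 2 * k + 5) (by omega)
  have h0 := one_le_prod (q := q) (m := k + 2) (by omega)
  have h8 : 16 ≤ q ^ 4 := Nat.pow_le_pow_left (n := 2) hq 4
  calc d * N ^ 2 ≤ 4 * (2 * q ^ (2 * k + 7)) ^ 2 := by gcongr
    _ = 16 * q ^ (4 * k + 14) := by ring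
    _ ≤ q ^ 4 * q ^ (4 * k + 14) := Nat.mul_le_mul_right _ h8
    _ = q ^ (4 * k + 18) := by ring
    _ < q ^ ((k + 4) * (k + 2 + 1) + (k + 3) + (2 * k + 5)) := Nat.pow_lt_pow_right (by omega) (by nlinarith only [])
    _ = q ^ ((k + 4) * (k + 2 + 1)) * q ^ (k + 3) * (1 * q ^ (2 * k + 5)) := by rw [pow_add, pow_add]; ring
    _ ≤ _ := by gcongr

/-- The order of `GUₙ` without denominators. -/
def A (q n : ℕ) : ℕ := q ^ (n * (n - 1) / 2) * ∏ i ∈ Finset.range n, (if Even i then q ^ (i + 1) + 1 else q ^ (i + 1) - 1)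

theorem A_succ (q n : ℕ) : A q (n + 1) = q ^ n * (if Even n then q ^ (n + 1) + 1 else q ^ (n + 1) - 1) * A q n := by
  unfold A
  rw [Finset.prod_range_succ, Nat.triangle_succ, pow_add]
  ring

theorem A_step {q n : ℕ} (hq : 2 ≤ q) : q ^ n * q ^ n * A q n ≤ A q (n + 1) := by
  rw [A_succ]
  have h1 : q ^ n ≤ (if Even n then q ^ (n + 1) + 1 else q ^ (n + 1) - 1) := by
    have h2 := pow_sub_one_ge (q := q) (k := n) hq
    split_ifs <;> omega
  gcongr

theorem A_five (q : ℕ) : A q 5 = q ^ 10 * ((q + 1) * (q ^ 2 - 1) * (q ^ 3 + 1) * (q ^ 4 - 1) * (q ^ 5 + 1)) := by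
  unfold A
  simp only [Finset.prod_range_succ, Finset.prod_range_zero, one_mul]
  have h0 : Even 0 := by decide
  have h1 : ¬ Even 1 := by decide
  have h2 : Even 2 := by decide
  have h3 : ¬ Even 3 := by decide
  have h4 : Even 4 := by decide
  simp only [h0, h1, h2, h3, h4, if_true, if_false]
  norm_num only [_root_.pow_one]

theorem A_ge {q : ℕ} (hq : 2 ≤ q) (k : ℕ) : 4 * q ^ (4 * k + 16) * (q + 1) * (q + 1) < A q (k + 5) := by
  induction k with
  | zero =>
    rw [A_five]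
    have h2 : q ≤ q ^ 2 - 1 := by simpa only [_root_.pow_one, _root_.Nat.reduceAdd] using pow_sub_one_ge (q := q) (k := 1) hq
    have h4 : q ^ 3 ≤ q ^ 4 - 1 := pow_sub_one_ge hq
    have h3 : q ^ 3 ≤ q ^ 3 + 1 := Nat.le_succ _
    have h5 : q ^ 5 ≤ q ^ 5 + 1 := Nat.le_succ _
    have h6 : 4 * (q + 1) < q ^ 6 := by
      have : 2 ^ 5 ≤ q ^ 5 := Nat.pow_le_pow_left hq 5
      calc 4 * (q + 1) < 32 * q := by omega
        _ ≤ q ^ 5 * q := Nat.mul_le_mul_right _ this
        _ = q ^ 6 := by ring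
    have hpos : 0 < q ^ 16 * (q + 1) := by positivity
    calc 4 * q ^ (4 * 0 + 16) * (q + 1) * (q + 1) = q ^ 16 * (q + 1) * (4 * (q + 1)) := by ring
      _ < q ^ 16 * (q + 1) * q ^ 6 := Nat.mul_lt_mul_of_pos_left h6 hpos
      _ = q ^ 10 * ((q + 1) * q * q ^ 3 * q ^ 3 * q ^ 5) := by ring
      _ ≤ q ^ 10 * ((q + 1) * (q ^ 2 - 1) * (q ^ 3 + 1) * (q ^ 4 - 1) * (q ^ 5 + 1)) := by gcongr
  | succ k ih =>
    refine lt_of_lt_of_le ?_ (A_step (n := k + 5) hq)
    have h1 : q ^ 4 ≤ q ^ (k + 5) * q ^ (k + 5) := by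
      rw [← pow_add]
      exact Nat.pow_le_pow_right (by omega) (by omega)
    calc 4 * q ^ (4 * (k + 1) + 16) * (q + 1) * (q + 1) = q ^ 4 * (4 * q ^ (4 * k + 16) * (q + 1) * (q + 1)) := by ring
      _ < q ^ 4 * A q (k + 5) := Nat.mul_lt_mul_of_pos_left ih (by positivity)
      _ ≤ _ := Nat.mul_le_mul_right _ h1

/-- `PSUₙ`, `n ≥ 5`. -/
theorem psu {q d g N k : ℕ} (hq : 2 ≤ q) (hd : d ≤ q + 1) (hN : N ≤ 2 * (q ^ 2) ^ (k + 4))
    (hg : d * ((q + 1) * g) = A q (k + 5)) : N ^ 2 < g := by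
  have hmain : d * ((q + 1) * N ^ 2) < d * ((q + 1) * g) := by
    rw [hg]
    refine lt_of_le_of_lt ?_ (A_ge hq k)
    calc d * ((q + 1) * N ^ 2) ≤ (q + 1) * ((q + 1) * (2 * (q ^ 2) ^ (k + 4)) ^ 2) := by gcongr
      _ = _ := by ring
  exact lt_of_mul_lt_mul_left (lt_of_mul_lt_mul_left hmain (Nat.zero_le _)) (Nat.zero_le _)

theorem A_four (q : ℕ) : A q 4 = q ^ 6 * ((q + 1) * (q ^ 2 - 1) * (q ^ 3 + 1) * (q ^ 4 - 1)) := by
  unfold A
  simp only [Finset.prod_range_succ, Finset.prod_range_zero, one_mul]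
  have h0 : Even 0 := by decide
  have h1 : ¬ Even 1 := by decide
  have h2 : Even 2 := by decide
  have h3 : ¬ Even 3 := by decide
  simp only [h0, h1, h2, h3, if_true, if_false]
  norm_num only [_root_.pow_one]

theorem A_three (q : ℕ) : A q 3 = q ^ 3 * ((q + 1) * (q ^ 2 - 1) * (q ^ 3 + 1)) := by
  unfold A
  simp only [Finset.prod_range_succ, Finset.prod_range_zero, one_mul]
  have h0 : Even 0 := by decide
  have h1 : ¬ Even 1 := by decide
  have h2 : Even 2 := by decide
  simp only [h0, h1, h2, if_true, if_false]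
  norm_num only [_root_.pow_one]

/-- `PSU₄`. -/
theorem psu_four {q d g N : ℕ} (hq : 2 ≤ q) (hd : d = Nat.gcd 4 (q + 1)) (hN : N * (q ^ 2 - 1) = (q ^ 2) ^ 4 - 1)
    (hg : d * ((q + 1) * g) = A q 4) : N ^ 2 < g := by
  rw [A_four] at hg
  obtain ⟨a, ha⟩ : ∃ a, q ^ 2 = a + 1 := ⟨q ^ 2 - 1, by
    have : 1 ≤ q ^ 2 := Nat.one_le_pow _ _ (by omega)
    omega⟩
  have ha3 : 3 ≤ a := by
    have : 2 ^ 2 ≤ q ^ 2 := Nat.pow_le_pow_left hq 2
    omega
  have e4 : q ^ 4 = (a + 1) ^ 2 := by rw [← ha]; ring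
  have hq2 : q ^ 2 - 1 = a := by omega
  have hN' : N = (a + 2) * ((a + 1) ^ 2 + 1) := by
    rw [hq2, ha] at hN
    have h1 : (a + 1) ^ 4 - 1 = (a + 2) * ((a + 1) ^ 2 + 1) * a := by
      have : (a + 1) ^ 4 = (a + 2) * ((a + 1) ^ 2 + 1) * a + 1 := by ring
      omega
    rw [h1] at hN
    exact Nat.eq_of_mul_eq_mul_right (by omega) hN
  have hq4 : q ^ 4 - 1 = a * (a + 2) := by
    rw [e4]
    have : (a + 1) ^ 2 = a * (a + 2) + 1 := by ring
    omega
  have hg' : d * g = q ^ 6 * (a * (q ^ 3 + 1) * (a * (a + 2))) := by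
    rw [hq2, hq4] at hg
    apply Nat.eq_of_mul_eq_mul_left (by omega : 0 < q + 1)
    calc (q + 1) * (d * g) = d * ((q + 1) * g) := by ring
      _ = _ := by rw [hg]; ring
  have hd4 : d ≤ 4 := by rw [hd]; exact Nat.le_of_dvd (by norm_num) (Nat.gcd_dvd_left _ _)
  rw [hN']
  apply lt_of_mul_lt_mul_left _ (Nat.zero_le d)
  rw [hg']
  rcases Nat.eq_or_lt_of_le hq with rfl | hq3
  · have hd1 : d = 1 := by rw [hd]; rfl
    have ha' : a = 3 := by omega
    subst ha' hd1
    norm_num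
  · rcases Nat.eq_or_lt_of_le (show 3 ≤ q from hq3) with rfl | hq4'
    · have ha' : a = 8 := by omega
      subst ha'
      have : d * ((8 + 2) * ((8 + 1) ^ 2 + 1)) ^ 2 ≤ 4 * ((8 + 2) * ((8 + 1) ^ 2 + 1)) ^ 2 := Nat.mul_le_mul_right _ hd4
      refine lt_of_le_of_lt this (by norm_num)
    · have e6 : q ^ 6 = (a + 1) ^ 3 := by rw [← ha]; ring
      have h64 : 64 ≤ q ^ 3 := by
        calc 64 = 4 ^ 3 := by norm_num
          _ ≤ q ^ 3 := Nat.pow_le_pow_left hq4' 3
      have ha15 : 15 ≤ a := by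
        have : 4 ^ 2 ≤ q ^ 2 := Nat.pow_le_pow_left hq4' 2
        omega
      rw [e6]
      have h1 : (a + 1) ^ 2 + 1 ≤ 2 * (a + 1) ^ 2 := by linarith only [hq4]
      have h2 : a + 2 ≤ 2 * a := by omega
      have h3 : a + 1 ≤ 2 * a := by omega
      have hpos : 0 < a + 2 := by omega
      calc d * ((a + 2) * ((a + 1) ^ 2 + 1)) ^ 2 ≤ 4 * ((a + 2) * ((a + 1) ^ 2 + 1)) ^ 2 := by gcongr
        _ = (a + 2) * (4 * (a + 2) * ((a + 1) ^ 2 + 1) ^ 2) := by ring
        _ ≤ (a + 2) * (4 * (2 * a) * (2 * (a + 1) ^ 2) ^ 2) := by gcongr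
        _ = (a + 2) * ((a + 1) ^ 3 * (32 * a * (a + 1))) := by ring
        _ < (a + 2) * ((a + 1) ^ 3 * (65 * a * a)) := by
          apply Nat.mul_lt_mul_of_pos_left _ hpos
          apply Nat.mul_lt_mul_of_pos_left _ (by positivity)
          nlinarith only [ha15]
        _ ≤ (a + 2) * ((a + 1) ^ 3 * ((q ^ 3 + 1) * a * a)) := by
          have : 65 ≤ q ^ 3 + 1 := by omega
          gcongr
        _ = _ := by ring

end Cfsg.Agent.H933.Arith
end

-- part: H933/BigClassical
section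
/-!
Large subgroups of the alternating and of the classical simple groups.
-/

set_option autoImplicit false

namespace Cfsg.Agent.H933

open Cfsg
open scoped LinearAlgebra.Projectivization

universe u

theorem not_comm_of_equiv {G : Type u} [Group G] (hG : ¬ IsMulCommutative G) {K : Type*} [Group K] (e : G ≃* K) :
    ¬ ∀ a b : K, a * b = b * a := by
  intro h
  apply hG
  refine ⟨⟨fun a b => ?_⟩⟩
  apply e.injective
  rw [map_mul, map_mul]
  exact h _ _

theorem two_mul_sq_lt_factorial {n : ℕ} (hn : 5 ≤ n) : 2 * n ^ 2 < n.factorial := by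
  induction n, hn using Nat.le_induction with
  | base => decide
  | succ n hn ih =>
    rw [Nat.factorial_succ]
    calc 2 * (n + 1) ^ 2 = (n + 1) * (2 * (n + 1)) := by ring
      _ < (n + 1) * (2 * n ^ 2) := by
        apply Nat.mul_lt_mul_of_pos_left _ (Nat.succ_pos n)
        nlinarith
      _ ≤ (n + 1) * n.factorial := Nat.mul_le_mul_left _ ih.le

theorem big_alt {G : Type u} [Group G] (h : IsAlternating G) : Big G := by
  obtain ⟨n, hn, ⟨e⟩⟩ := h
  refine Big.of_equiv e ?_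
  have : Nontrivial (Fin n) := Fin.nontrivial_iff_two_le.2 (by omega)
  apply Big.of_perm
  have h1 := two_mul_nat_card_alternatingGroup (α := Fin n)
  rw [Nat.card_perm] at h1
  have h2 := two_mul_sq_lt_factorial hn
  have h3 : Nat.card (Fin n) = n := by simp
  rw [h3] at h1 ⊢
  omega

/-! ### Linear groups -/

theorem big_psl {G : Type u} [Group G] (hG : ¬ IsMulCommutative G) (h : IsPSL G) : Big G := by
  obtain ⟨F, _, _, n, hn, hn2, ⟨e⟩⟩ := h
  refine Big.of_equiv e ?_
  have hna := not_comm_of_equiv hG e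
  have hq : 2 ≤ Fintype.card F := Fintype.one_lt_card
  have hord := S0243.result (F := F) rfl n hn
  refine big_matrix (slToMat n F) ?_ hna (n := Nat.card (ℙ F (Fin n → F))) le_rfl ?_
  · intro a b hab
    apply Subtype.ext
    exact hab
  · have hlines := card_lines (F := F) (Fintype.card_fin n)
    rcases Nat.eq_or_lt_of_le hn with rfl | hn3
    · refine Arith.psl_two (hn2 rfl) rfl hlines ?_
      rw [hord]
      simp only [Fin.prod_univ_two, _root_.Fin.isValue, _root_.Fin.coe_ofNat_eq_mod, _root_.Nat.zero_mod, _root_.pow_zero, _root_.Nat.mod_succ, _root_.pow_one]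
    · obtain ⟨k, rfl⟩ : ∃ k, n = k + 3 := ⟨n - 3, by omega⟩
      exact Arith.psl hq (Nat.le_of_dvd (by omega) (Nat.gcd_dvd_right _ _))
        (card_lines_le (F := F) (d := k + 2) (by rw [Fintype.card_fin])) hord

/-! ### Symplectic groups -/

theorem big_psp {G : Type u} [Group G] (hG : ¬ IsMulCommutative G) (h : IsPSp G) : Big G := by
  obtain ⟨F, _, _, m, hm, hm2, ⟨e⟩⟩ := h
  refine Big.of_equiv e ?_
  have hna := not_comm_of_equiv hG e
  have hq : 2 ≤ Fintype.card F := Fintype.one_lt_card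
  have hord := S0245.result (F := F) rfl m
  have hz := S0246.result (F := F) rfl m (by omega)
  have hfin : Finite (Matrix.symplecticGroup (Fin m) F) := inferInstance
  have hmul : Nat.gcd 2 (Fintype.card F - 1) * Nat.card (PSp m F) =
      Fintype.card F ^ (m ^ 2) * ∏ i ∈ Finset.range m, (Fintype.card F ^ (2 * (i + 1)) - 1) := by
    rw [← hord, ← hz, mul_comm]
    exact (Subgroup.card_eq_card_quotient_mul_card_subgroup _).symm
  have hd : Nat.gcd 2 (Fintype.card F - 1) ≤ 2 := Nat.le_of_dvd (by norm_num) (Nat.gcd_dvd_left _ _)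
  refine big_matrix (Submonoid.subtype _) Subtype.val_injective hna
    (n := Nat.card (ℙ F (Fin m ⊕ Fin m → F))) le_rfl ?_
  have hlines := card_lines_le (ι := Fin m ⊕ Fin m) (F := F) (d := 2 * m - 1)
    (by rw [Fintype.card_sum, Fintype.card_fin]; omega)
  rcases Nat.eq_or_lt_of_le hm with rfl | hm3
  · exact Arith.psp_two (hm2 rfl) hd hlines rfl hmul
  · obtain ⟨k, rfl⟩ : ∃ k, m = k + 3 := ⟨m - 3, by omega⟩
    have e1 : 2 * (k + 3) - 1 = 2 * k + 5 := by omega
    rw [e1] at hlines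
    exact Arith.psp hq hd hlines rfl hmul

/-! ### Orthogonal groups -/

theorem big_pomega_aux {ι : Type} [Fintype ι] [DecidableEq ι] {F : Type} [Field F] [Fintype F] {Q : (ι → F) → F}
    (hna : ¬ ∀ a b : POmega F Q, a * b = b * a) (h : Nat.card (ℙ F (ι → F)) ^ 2 < Nat.card (POmega F Q)) :
    Big (POmega F Q) := by
  refine big_matrix (X := Omega F Q)
    (((Units.coeHom (Matrix ι ι F)).comp (isometryGroup F Q).subtype).comp (Omega F Q).subtype) ?_ hna le_rfl h
  intro a b hab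
  apply Subtype.ext
  apply Subtype.ext
  exact Units.ext hab

theorem big_pomega_odd {G : Type u} [Group G] (hG : ¬ IsMulCommutative G) (h : IsPOmegaOdd G) : Big G := by
  obtain ⟨F, _, _, m, hm, hodd, ⟨e⟩⟩ := h
  refine Big.of_equiv e ?_
  have hna := not_comm_of_equiv hG e
  have hq : 3 ≤ Fintype.card F := by
    have : 2 ≤ Fintype.card F := Fintype.one_lt_card
    rcases hodd with ⟨r, hr⟩
    omega
  obtain ⟨k, rfl⟩ : ∃ k, m = k + 3 := ⟨m - 3, by omega⟩
  have hord := S0292.result (F := F) rfl hodd (k + 3) hm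
  refine big_pomega_aux hna ?_
  refine Arith.pomega_odd hq (card_lines_le (F := F) (d := 2 * k + 6) ?_) hord
  rw [Fintype.card_sum, Fintype.card_sum, Fintype.card_fin, Fintype.card_unit]
  omega

theorem big_pomega_plus {G : Type u} [Group G] (hG : ¬ IsMulCommutative G) (h : IsPOmegaPlus G) : Big G := by
  obtain ⟨F, _, _, m, hm, ⟨e⟩⟩ := h
  refine Big.of_equiv e ?_
  have hna := not_comm_of_equiv hG e
  have hq : 2 ≤ Fintype.card F := Fintype.one_lt_card
  obtain ⟨k, rfl⟩ : ∃ k, m = k + 4 := ⟨m - 4, by omega⟩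
  have hord := S0293.result (F := F) rfl (k + 4) hm
  refine big_pomega_aux hna ?_
  refine Arith.pomega_even hq (Nat.le_of_dvd (by norm_num) (Nat.gcd_dvd_left _ _))
    (card_lines_le (F := F) (d := 2 * k + 7) ?_) (Arith.pow_sub_one_ge hq) hord
  rw [Fintype.card_sum, Fintype.card_fin]
  omega

theorem big_pomega_minus {G : Type u} [Group G] (hG : ¬ IsMulCommutative G) (h : IsPOmegaMinus G) : Big G := by
  obtain ⟨F, _, _, m, a, b, hm, hab, ⟨e⟩⟩ := h
  refine Big.of_equiv e ?_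
  have hna := not_comm_of_equiv hG e
  have hq : 2 ≤ Fintype.card F := Fintype.one_lt_card
  obtain ⟨k, rfl⟩ : ∃ k, m = k + 4 := ⟨m - 4, by omega⟩
  have hord := S0294.result (F := F) rfl (k + 4) hm a b hab
  refine big_pomega_aux hna ?_
  refine Arith.pomega_even hq (Nat.le_of_dvd (by norm_num) (Nat.gcd_dvd_left _ _))
    (card_lines_le (F := F) (d := 2 * k + 7) ?_) (le_trans (Nat.pow_le_pow_right (by omega) (by omega)) (Nat.le_succ _)) hord
  rw [Fintype.card_sum, Fintype.card_sum, Fintype.card_fin, Fintype.card_fin]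
  omega

/-! ### Unitary groups -/

open Cfsg.Agent.LieClassical.HermBasic in
/-- An isotropic vector in dimension three. -/
theorem exists_isotropic {F : Type} [Field F] [Fintype F] {q : ℕ} (hF : Fintype.card F = q ^ 2) :
    ∃ v : Fin 3 → F, v ≠ 0 ∧ hermForm 3 F q v v = 0 := by
  obtain ⟨x, hx⟩ := _root_.Cfsg.Agent.LieClassical.HermBasic.exists_norm_eq hF (c := -1) (by rw [neg_pow_q hF, one_pow])
  refine ⟨![1, x, 0], ?_, ?_⟩
  · intro h
    have := congrFun h 0
    simp at this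
  · unfold hermForm
    rw [Fin.sum_univ_three]
    simp only [Matrix.cons_val_zero, Matrix.cons_val_one, Matrix.cons_val]
    rw [one_pow, hx]
    ring

theorem hermForm_smul {F : Type} [Field F] (n q : ℕ) (a b : F) (u v : Fin n → F) :
    hermForm n F q (a • u) (b • v) = a * b ^ q * hermForm n F q u v := by
  unfold hermForm
  rw [Finset.mul_sum]
  refine Finset.sum_congr rfl fun i _ => ?_
  simp only [Pi.smul_apply, smul_eq_mul, mul_pow]
  ring

theorem psu_three_arith {q d g : ℕ} (hq : 3 ≤ q) (hd : d ≤ 3) (hg : d * ((q + 1) * g) = Arith.A q 3) :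
    (q ^ 3 + 1) ^ 2 < g := by
  rw [Arith.A_three] at hg
  have hg' : d * g = q ^ 3 * ((q ^ 2 - 1) * (q ^ 3 + 1)) := by
    apply Nat.eq_of_mul_eq_mul_left (by omega : 0 < q + 1)
    calc (q + 1) * (d * g) = d * ((q + 1) * g) := by ring
      _ = _ := by rw [hg]; ring
  apply lt_of_mul_lt_mul_left _ (Nat.zero_le d)
  rw [hg']
  have h27 : 27 ≤ q ^ 3 := by
    calc 27 = 3 ^ 3 := by norm_num
      _ ≤ q ^ 3 := Nat.pow_le_pow_left hq 3
  have h8 : 8 ≤ q ^ 2 - 1 := by
    have : 3 ^ 2 ≤ q ^ 2 := Nat.pow_le_pow_left hq 2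
    omega
  calc d * (q ^ 3 + 1) ^ 2 ≤ 3 * (q ^ 3 + 1) ^ 2 := Nat.mul_le_mul_right _ hd
    _ = (3 * (q ^ 3 + 1)) * (q ^ 3 + 1) := by ring
    _ < (q ^ 3 * 8) * (q ^ 3 + 1) := Nat.mul_lt_mul_of_pos_right (by omega) (by omega)
    _ ≤ (q ^ 3 * (q ^ 2 - 1)) * (q ^ 3 + 1) := by gcongr
    _ = _ := by ring

theorem big_psu_three {F : Type} [Field F] [Fintype F] {q : ℕ} (hF : Fintype.card F = q ^ 2) (hq : 3 ≤ q) :
    Big (PSU 3 F q) := by
  obtain ⟨v, hv, hvv⟩ := exists_isotropic hF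
  have hstab := S0782.result hF 3 1 (by norm_num) (by norm_num) (Submodule.span F {v})
    (finrank_span_singleton hv) (by
      intro x hx y hy
      rw [Submodule.mem_span_singleton] at hx hy
      obtain ⟨a, rfl⟩ := hx
      obtain ⟨b, rfl⟩ := hy
      rw [hermForm_smul, hvv, mul_zero])
  have hSU := S0278.result hF 3 (by norm_num)
  have hPSU := S0280.result hF 3 (by norm_num)
  have hz := S0279.result hF 3 le_rfl
  have hfin : Finite (SU 3 F q) := inferInstance
  set K := (stabilizing (slToMat 3 F) ((Submodule.span F {v} : Submodule F (Fin 3 → F)) : Set (Fin 3 → F))).subgroupOf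
    (SU 3 F q) with hK
  have hKc : Nat.card K = q ^ 3 * (q ^ 2 - 1) := by
    have h1 : (q + 1) * Nat.card K = (q + 1) * (q ^ 3 * (q ^ 2 - 1)) := by
      rw [hstab]
      simp only [Fin.prod_univ_one, _root_.Nat.reduceMul, _root_.mul_one, _root_.Nat.reduceSub, _root_.one_mul, _root_.Finset.univ_unique, _root_.Fin.default_eq_zero, _root_.Fin.isValue, _root_.pow_one, _root_.Fin.val_eq_zero, _root_.pow_zero, _root_.Finset.prod_const, _root_.Finset.card_singleton, _root_.tsub_self, _root_.MulZeroClass.mul_zero, _root_.Nat.zero_div, _root_.Finset.range_one, _root_.Finset.prod_singleton, _root_.Even.zero, ↓ _root_.reduceIte, _root_.zero_add]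
      ring
    exact Nat.eq_of_mul_eq_mul_left (by omega) h1
  have hSUc : Nat.card (SU 3 F q) = q ^ 3 * (q ^ 2 - 1) * (q ^ 3 + 1) := by
    have h1 : (q + 1) * Nat.card (SU 3 F q) = Arith.A q 3 := hSU
    rw [Arith.A_three] at h1
    apply Nat.eq_of_mul_eq_mul_left (by omega : 0 < q + 1)
    rw [h1]
    ring
  have hpos : 0 < q ^ 3 * (q ^ 2 - 1) := by rw [← hKc]; exact Nat.card_pos
  have hidx : K.index = q ^ 3 + 1 := by
    have := K.card_mul_index
    rw [hKc, hSUc] at this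
    exact Nat.eq_of_mul_eq_mul_left hpos this
  have hd : Nat.gcd 3 (q + 1) ≤ 3 := Nat.le_of_dvd (by norm_num) (Nat.gcd_dvd_left _ _)
  have h27 : 27 ≤ q ^ 3 := by
    calc 27 = 3 ^ 3 := by norm_num
      _ ≤ q ^ 3 := Nat.pow_le_pow_left hq 3
  refine Big.of_quotient (X := SU 3 F q) (H := K) (n := q ^ 3 + 1) (sup_center_ne_top' K ?_) hidx.le (by omega)
    (psu_three_arith hq hd hPSU)
  rw [hz, hidx]
  omega

theorem big_psu {G : Type u} [Group G] (hG : ¬ IsMulCommutative G) (h : IsPSU G) : Big G := by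
  obtain ⟨F, _, _, n, q, hF, hn, hn3, ⟨e⟩⟩ := h
  refine Big.of_equiv e ?_
  have hna := not_comm_of_equiv hG e
  have hq : 2 ≤ q := Cfsg.Agent.LieClassical.HermBasic.two_le hF
  rcases Nat.eq_or_lt_of_le hn with rfl | hn4
  · exact big_psu_three hF (by
      rcases Nat.eq_or_lt_of_le hq with rfl | h3
      · exact absurd ⟨rfl, rfl⟩ hn3
      · exact h3)
  · have hord := S0280.result hF n (by omega)
    refine big_matrix (X := SU n F q) ((slToMat n F).comp (SU n F q).subtype) ?_ hna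
      (n := Nat.card (ℙ F (Fin n → F))) le_rfl ?_
    · intro a b hab
      apply Subtype.ext
      apply Subtype.ext
      exact hab
    · rcases Nat.eq_or_lt_of_le (show 4 ≤ n from hn4) with rfl | hn5
      · have hl := card_lines (F := F) (Fintype.card_fin 4)
        rw [hF] at hl
        exact Arith.psu_four hq rfl hl hord
      · obtain ⟨k, rfl⟩ : ∃ k, n = k + 5 := ⟨n - 5, by omega⟩
        have hl := card_lines_le (F := F) (d := k + 4) (ι := Fin (k + 5)) (by rw [Fintype.card_fin])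
        rw [hF] at hl
        exact Arith.psu hq (Nat.le_of_dvd (by omega) (Nat.gcd_dvd_right _ _)) hl hord

end Cfsg.Agent.H933
end

-- part: H933/BigTwisted
section
/-!
Large subgroups of the twisted groups of exceptional type and of the Tits group.
-/

set_option autoImplicit false

namespace Cfsg.Agent.H933

open Cfsg Cfsg.Lie

universe u

namespace BN

variable {G : Type u} [Group G] (P : BNPair G)

/-- A Weyl group of order more than two needs two generators. -/
theorem two_le_ncard [Finite G] (h : 2 < (P.B ⊓ P.N).relIndex P.N) : 2 ≤ P.S.ncard := by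
  by_contra hlt
  have h1 : ∃ s ∈ P.N, s * s ∈ P.B ∧ P.S ⊆ {s} := by
    have hle : P.S.ncard ≤ 1 := by omega
    rw [Set.ncard_le_one_iff_subset_singleton] at hle
    obtain ⟨s, hs⟩ := hle
    by_cases hS : s ∈ P.S
    · exact ⟨s, P.subset hS, P.sq_mem s hS, hs⟩
    · refine ⟨1, one_mem _, by rw [one_mul]; exact one_mem _, ?_⟩
      intro x hx
      have := hs hx
      rw [Set.mem_singleton_iff] at this
      exact absurd (this ▸ hx) hS
  obtain ⟨s, hs, hss, hS⟩ := h1
  let T := (P.B ⊓ P.N).subgroupOf P.N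
  have hT : T.Normal := by
    refine ⟨?_⟩
    rintro ⟨t, htN⟩ ht ⟨n, hn⟩
    have ht' : t ∈ P.B ⊓ P.N := Subgroup.mem_subgroupOf.1 ht
    rw [Subgroup.mem_subgroupOf]
    exact ⟨P.conj_mem n hn t ht', P.N.mul_mem (P.N.mul_mem hn htN) (P.N.inv_mem hn)⟩
  let s' : P.N ⧸ T := QuotientGroup.mk' T ⟨s, hs⟩
  have hs2 : s' ^ 2 = 1 := by
    rw [pow_two, ← map_mul]
    change ((⟨s, hs⟩ * ⟨s, hs⟩ : P.N) : P.N ⧸ T) = 1
    rw [QuotientGroup.eq_one_iff, Subgroup.mem_subgroupOf]
    exact ⟨hss, P.N.mul_mem hs hs⟩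
  have hgen : ∀ x : P.N ⧸ T, x ∈ Subgroup.zpowers s' := by
    intro x
    obtain ⟨⟨n, hn⟩, rfl⟩ := QuotientGroup.mk'_surjective T x
    have hle : P.N ≤ ((Subgroup.zpowers s').comap (QuotientGroup.mk' T)).map P.N.subtype := by
      conv_lhs => rw [← P.closure_sup]
      refine sup_le ?_ ?_
      · rw [Subgroup.closure_le]
        intro t ht
        have hts : t = s := hS ht
        subst hts
        exact ⟨⟨t, hs⟩, Subgroup.mem_zpowers s', rfl⟩
      · intro t ht
        refine ⟨⟨t, ht.2⟩, ?_, rfl⟩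
        have : QuotientGroup.mk' T ⟨t, ht.2⟩ = 1 := by
          change ((⟨t, ht.2⟩ : P.N) : P.N ⧸ T) = 1
          rw [QuotientGroup.eq_one_iff, Subgroup.mem_subgroupOf]
          exact ht
        change QuotientGroup.mk' T ⟨t, ht.2⟩ ∈ Subgroup.zpowers s'
        rw [this]
        exact one_mem _
    obtain ⟨m, hm, hmn⟩ := hle hn
    have : m = ⟨n, hn⟩ := Subtype.ext hmn
    rw [← this]
    exact hm
  have hcard : Nat.card (P.N ⧸ T) ≤ 2 := by
    rw [← orderOf_eq_card_of_forall_mem_zpowers hgen]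
    exact orderOf_le_of_pow_eq_one (by norm_num) hs2
  have : Nat.card (P.N ⧸ T) = (P.B ⊓ P.N).relIndex P.N := rfl
  omega

end BN

/-- General facts about `B¹ = G¹ ∩ B` and `N¹ = G¹ ∩ N`. -/
theorem tw_card_B {K : Type} [Field K] [Fintype K] (D : ChevalleyDatum)
    (hD : D ∈ [chevG2, chevB2, chevD4, chevF4, chevE6, chevE7, chevE8]) (T : Subgroup (GL D.Idx K)) :
    Nat.card ↥(D.posUnipotent K ⊓ T) * Nat.card ↥(D.diagonalSubgroup K ⊓ T) ≤
      Nat.card ↥((D.borelSubgroup K ⊓ T).subgroupOf T) := by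
  have hfB : Finite ↥(D.borelSubgroup K ⊓ T) := inferInstance
  rw [Nat.card_congr (Subgroup.subgroupOfEquivOfLe (inf_le_right : D.borelSubgroup K ⊓ T ≤ T)).toEquiv]
  refine card_mul_le (inf_le_inf_right _ le_sup_left) (inf_le_inf_right _ le_sup_right) ?_
  rw [eq_bot_iff, ← (S1036.result (F := K) D hD).2]
  exact inf_le_inf inf_le_left inf_le_left

theorem tw_inf {K : Type} [Field K] [Fintype K] (D : ChevalleyDatum)
    (hD : D ∈ [chevG2, chevB2, chevD4, chevF4, chevE6, chevE7, chevE8]) (T : Subgroup (GL D.Idx K)) :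
    (D.borelSubgroup K ⊓ T).subgroupOf T ⊓ (D.monomialSubgroup K ⊓ T).subgroupOf T =
      (D.diagonalSubgroup K ⊓ T).subgroupOf T := by
  have h := (S1040.result (F := K) D hD).2
  ext ⟨x, hx⟩
  have hx' : x ∈ D.diagonalSubgroup K ↔ x ∈ D.borelSubgroup K ∧ x ∈ D.monomialSubgroup K := by
    rw [← h]
    rfl
  simp only [Subgroup.mem_inf, Subgroup.mem_subgroupOf]
  rw [hx']
  (clear * -; tauto)

/-- The relative index of `H¹` in `N¹`. -/
theorem tw_relIndex {K : Type} [Field K] [Fintype K] (D : ChevalleyDatum)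
    (hD : D ∈ [chevG2, chevB2, chevD4, chevF4, chevE6, chevE7, chevE8]) (T : Subgroup (GL D.Idx K))
    {W : Type*} [Group W] {φ : ↥(D.monomialSubgroup K ⊓ T) →* W} (hφ : Function.Surjective φ)
    (hk : φ.ker = (D.diagonalSubgroup K ⊓ T).subgroupOf (D.monomialSubgroup K ⊓ T)) :
    ((D.borelSubgroup K ⊓ T).subgroupOf T ⊓ (D.monomialSubgroup K ⊓ T).subgroupOf T).relIndex
      ((D.monomialSubgroup K ⊓ T).subgroupOf T) = Nat.card W := by
  rw [tw_inf D hD]
  have h1 : (D.monomialSubgroup K ⊓ T) ≤ T := inf_le_right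
  have h2 : ((D.diagonalSubgroup K ⊓ T).subgroupOf T).relIndex ((D.monomialSubgroup K ⊓ T).subgroupOf T) =
      (D.diagonalSubgroup K ⊓ T).relIndex (D.monomialSubgroup K ⊓ T) := by
    rw [Subgroup.subgroupOf, Subgroup.relIndex_comap, Subgroup.subgroupOf_map_subtype, inf_eq_left.2 h1]
  rw [h2]
  have h3 : (D.diagonalSubgroup K ⊓ T).relIndex (D.monomialSubgroup K ⊓ T) = φ.ker.index := by
    rw [hk]
    rfl
  rw [h3, Subgroup.index_ker, MonoidHom.range_eq_top.2 hφ, Subgroup.card_top]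

theorem BN.one_le_ncard {G : Type u} [Group G] (P : BNPair G) [Finite G] (h : 1 < (P.B ⊓ P.N).relIndex P.N) :
    1 ≤ P.S.ncard := by
  by_contra hlt
  have h0 : P.S.ncard = 0 := by omega
  rw [Set.ncard_eq_zero] at h0
  have h1 := P.closure_sup
  rw [h0, Subgroup.closure_empty, bot_sup_eq] at h1
  rw [h1, Subgroup.relIndex_self] at h
  exact absurd h (lt_irrefl 1)

/-! ### `²E₆(q)` -/

theorem arith_2E6 {q g h d : ℕ} (hq : 2 ≤ q) (hd3 : d ≤ 3)
    (hg : d * g = q ^ 36 * (q ^ 2 - 1) * (q ^ 5 + 1) * (q ^ 6 - 1) * (q ^ 8 - 1) * (q ^ 9 + 1) * (q ^ 12 - 1))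
    (hh : d * h = (q - 1) ^ 4 * (q + 1) ^ 2) : g < (3 ^ 1 * (q ^ 36 * h)) ^ 2 := by
  apply lt_of_mul_lt_mul_left _ (Nat.zero_le (d ^ 2))
  have h1 : d ^ 2 * (3 ^ 1 * (q ^ 36 * h)) ^ 2 = 9 * q ^ 72 * ((q - 1) ^ 4 * (q + 1) ^ 2) ^ 2 := by
    rw [← hh]
    ring
  have h2 : d ^ 2 * g = d * (d * g) := by ring
  rw [h1, h2, hg]
  rcases Nat.eq_or_lt_of_le hq with rfl | hq3
  · calc d * (2 ^ 36 * (2 ^ 2 - 1) * (2 ^ 5 + 1) * (2 ^ 6 - 1) * (2 ^ 8 - 1) * (2 ^ 9 + 1) * (2 ^ 12 - 1))
        ≤ 3 * (2 ^ 36 * (2 ^ 2 - 1) * (2 ^ 5 + 1) * (2 ^ 6 - 1) * (2 ^ 8 - 1) * (2 ^ 9 + 1) * (2 ^ 12 - 1)) :=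
          Nat.mul_le_mul_right _ hd3
      _ < _ := by norm_num
  · have hq1 : 1 ≤ q := by omega
    have e1 : q ^ 5 + 1 ≤ 2 * q ^ 5 := by
      have : 1 ≤ q ^ 5 := Nat.one_le_pow _ _ hq1
      omega
    have e2 : q ^ 9 + 1 ≤ 2 * q ^ 9 := by
      have : 1 ≤ q ^ 9 := Nat.one_le_pow _ _ hq1
      omega
    have hL : d * (q ^ 36 * (q ^ 2 - 1) * (q ^ 5 + 1) * (q ^ 6 - 1) * (q ^ 8 - 1) * (q ^ 9 + 1) * (q ^ 12 - 1)) ≤
        12 * q ^ 78 := by
      calc d * (q ^ 36 * (q ^ 2 - 1) * (q ^ 5 + 1) * (q ^ 6 - 1) * (q ^ 8 - 1) * (q ^ 9 + 1) * (q ^ 12 - 1))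
          ≤ 3 * (q ^ 36 * q ^ 2 * (2 * q ^ 5) * q ^ 6 * q ^ 8 * (2 * q ^ 9) * q ^ 12) := by
            gcongr <;> first | exact hd3 | exact Nat.sub_le _ _
        _ = 12 * q ^ 78 := by ring
    refine lt_of_le_of_lt hL ?_
    apply lt_of_mul_lt_mul_left _ (Nat.zero_le (3 ^ 8))
    have e3 : 2 * q ≤ 3 * (q - 1) := by omega
    have e4 : (2 * q) ^ 8 ≤ (3 * (q - 1)) ^ 8 := Nat.pow_le_pow_left e3 8
    have e5 : q ^ 4 ≤ (q + 1) ^ 4 := Nat.pow_le_pow_left (by omega) 4
    have e6 : 729 ≤ q ^ 6 := by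
      calc 729 = 3 ^ 6 := by norm_num
        _ ≤ q ^ 6 := Nat.pow_le_pow_left (by omega) 6
    have hpos : 0 < q ^ 78 := Nat.pow_pos (by omega)
    calc 3 ^ 8 * (12 * q ^ 78) = 78732 * q ^ 78 := by ring
      _ < (2304 * 729) * q ^ 78 := Nat.mul_lt_mul_of_pos_right (by norm_num) hpos
      _ ≤ (2304 * q ^ 6) * q ^ 78 := by gcongr
      _ = 9 * q ^ 72 * ((2 * q) ^ 8 * q ^ 4) := by ring
      _ ≤ 9 * q ^ 72 * ((3 * (q - 1)) ^ 8 * (q + 1) ^ 4) := by gcongr
      _ = 3 ^ 8 * (9 * q ^ 72 * ((q - 1) ^ 4 * (q + 1) ^ 2) ^ 2) := by ring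

theorem big_2E6 {G : Type u} [Group G] (h : Iso2E6 G) : Big G := by
  obtain ⟨K, _, _, q, hq, hK, e⟩ := h
  refine Big.of_nonempty e ?_
  obtain ⟨P, hB, hN⟩ := S1085.result hq hK
  obtain ⟨h1, h2⟩ := gcd_le' (a := 3) (b := q + 1) (by norm_num)
  have hfin : Finite (twistedE6 K q) := inferInstance
  obtain ⟨φ, hφ, hk⟩ := S1103.result hq hK
  have hW : 2 < (P.B ⊓ P.N).relIndex P.N := by
    rw [hB, hN, tw_relIndex chevE6 (by simp) _ hφ hk, S1092.result (⟨4, CoxeterMatrix.F₄⟩, 1152) (by simp)]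
    norm_num
  have hS := BN.two_le_ncard P hW
  refine Big.of_bnPair P (k := 1) (b := q ^ 36 * Nat.card ↥(chevE6.diagonalSubgroup K ⊓ twistedE6 K q)) (by omega) ?_ rfl
    (arith_2E6 hq.two_le h2 (S1066.result hq hK) (S1102.result hq hK))
  rw [hB, ← S1086.result hq hK]
  exact tw_card_B chevE6 (by simp) _

/-! ### `³D₄(q)` -/

theorem arith_3D4 {q : ℕ} (hq : 2 ≤ q) : q ^ 12 * (q ^ 2 - 1) * (q ^ 6 - 1) * (q ^ 8 + q ^ 4 + 1) <
    (3 ^ 0 * (q ^ 12 * ((q - 1) ^ 2 * (q ^ 2 + q + 1)))) ^ 2 := by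
  rcases Nat.eq_or_lt_of_le hq with rfl | hq3
  · norm_num
  · have hq1 : 1 ≤ q := by omega
    have e1 : q ^ 8 + q ^ 4 + 1 ≤ 3 * q ^ 8 := by
      have h1 : 1 ≤ q ^ 8 := Nat.one_le_pow _ _ hq1
      have h2 : q ^ 4 ≤ q ^ 8 := Nat.pow_le_pow_right hq1 (by norm_num)
      omega
    have hL : q ^ 12 * (q ^ 2 - 1) * (q ^ 6 - 1) * (q ^ 8 + q ^ 4 + 1) ≤ 3 * q ^ 28 := by
      calc q ^ 12 * (q ^ 2 - 1) * (q ^ 6 - 1) * (q ^ 8 + q ^ 4 + 1)
          ≤ q ^ 12 * q ^ 2 * q ^ 6 * (3 * q ^ 8) := by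
            gcongr <;> exact Nat.sub_le _ _
        _ = 3 * q ^ 28 := by ring
    refine lt_of_le_of_lt hL ?_
    apply lt_of_mul_lt_mul_left _ (Nat.zero_le (3 ^ 4))
    have e3 : 2 * q ≤ 3 * (q - 1) := by omega
    have e4 : (2 * q) ^ 4 ≤ (3 * (q - 1)) ^ 4 := Nat.pow_le_pow_left e3 4
    have e5 : q ^ 2 ≤ q ^ 2 + q + 1 := by omega
    have e6 : 81 ≤ q ^ 4 := by
      calc 81 = 3 ^ 4 := by norm_num
        _ ≤ q ^ 4 := Nat.pow_le_pow_left (by omega) 4
    have hpos : 0 < q ^ 28 := Nat.pow_pos (by omega)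
    calc 3 ^ 4 * (3 * q ^ 28) = 243 * q ^ 28 := by ring
      _ < (16 * 81) * q ^ 28 := Nat.mul_lt_mul_of_pos_right (by norm_num) hpos
      _ ≤ (16 * q ^ 4) * q ^ 28 := by gcongr
      _ = q ^ 24 * ((2 * q) ^ 4 * (q ^ 2) ^ 2) := by ring
      _ ≤ q ^ 24 * ((3 * (q - 1)) ^ 4 * (q ^ 2 + q + 1) ^ 2) := by gcongr
      _ = 3 ^ 4 * (3 ^ 0 * (q ^ 12 * ((q - 1) ^ 2 * (q ^ 2 + q + 1)))) ^ 2 := by ring

theorem big_3D4 {G : Type u} [Group G] (h : Iso3D4 G) : Big G := by
  obtain ⟨K, _, _, q, hq, hK, e⟩ := h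
  refine Big.of_nonempty e ?_
  obtain ⟨P, hB, hN⟩ := S1087.result hq hK
  have hfin : Finite (twistedD4 K q) := inferInstance
  obtain ⟨φ, hφ, hk⟩ := S1107.result hq hK
  have hW : 1 < (P.B ⊓ P.N).relIndex P.N := by
    rw [hB, hN, tw_relIndex chevD4 (by simp) _ hφ hk, S1092.result (⟨2, CoxeterMatrix.G₂⟩, 12) (by simp)]
    norm_num
  have hS := BN.one_le_ncard P hW
  refine Big.of_bnPair P (k := 0) (b := q ^ 12 * ((q - 1) ^ 2 * (q ^ 2 + q + 1))) (by omega) ?_
    (S1067.result hq hK) (arith_3D4 hq.two_le)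
  rw [hB, ← S1088.result hq hK, ← S1106.result hq hK]
  exact tw_card_B chevD4 (by simp) _

/-! ### `²F₄(q)` -/

theorem arith_2F4 {q : ℕ} (hq : 8 ≤ q) : q ^ 12 * (q - 1) * (q ^ 3 + 1) * (q ^ 4 - 1) * (q ^ 6 + 1) <
    (3 ^ 0 * (q ^ 12 * (q - 1) ^ 2)) ^ 2 := by
  have hq1 : 1 ≤ q := by omega
  have e1 : q ^ 3 + 1 ≤ 2 * q ^ 3 := by
    have : 1 ≤ q ^ 3 := Nat.one_le_pow _ _ hq1
    omega
  have e2 : q ^ 6 + 1 ≤ 2 * q ^ 6 := by
    have : 1 ≤ q ^ 6 := Nat.one_le_pow _ _ hq1
    omega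
  have e3 : q * 4 < (q - 1) * (q - 1) ^ 2 := by
    have h1 : 7 ^ 2 ≤ (q - 1) ^ 2 := Nat.pow_le_pow_left (by omega) 2
    have h2 : q ≤ 2 * (q - 1) := by omega
    calc q * 4 ≤ (2 * (q - 1)) * 4 := Nat.mul_le_mul_right _ h2
      _ = (q - 1) * 8 := by ring
      _ < (q - 1) * 7 ^ 2 := Nat.mul_lt_mul_of_pos_left (by norm_num) (by omega)
      _ ≤ (q - 1) * (q - 1) ^ 2 := Nat.mul_le_mul_left _ h1
  have hpos : 0 < q ^ 24 * (q - 1) := Nat.mul_pos (Nat.pow_pos (by omega)) (by omega)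
  calc q ^ 12 * (q - 1) * (q ^ 3 + 1) * (q ^ 4 - 1) * (q ^ 6 + 1)
      ≤ q ^ 12 * (q - 1) * (2 * q ^ 3) * q ^ 4 * (2 * q ^ 6) := by
        gcongr
        exact Nat.sub_le _ _
    _ = (q ^ 24 * (q - 1)) * (q * 4) := by ring
    _ < (q ^ 24 * (q - 1)) * ((q - 1) * (q - 1) ^ 2) := Nat.mul_lt_mul_of_pos_left e3 hpos
    _ = _ := by ring

theorem big_2F4 {G : Type u} [Group G] (h : Iso2F4 G) : Big G := by
  obtain ⟨K, _, _, m, hm, hK, e⟩ := h
  refine Big.of_nonempty e ?_
  obtain ⟨P, hB, hN⟩ := S1089.result hK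
  have hfin : Finite (twistedF4 K (2 ^ m)) := inferInstance
  obtain ⟨φ, hφ, hk⟩ := S1111.result hK
  have hW : 1 < (P.B ⊓ P.N).relIndex P.N := by
    rw [hB, hN, tw_relIndex chevF4 (by simp) _ hφ hk, DihedralGroup.nat_card]
    norm_num
  have hS := BN.one_le_ncard P hW
  have hq8 : 8 ≤ 2 ^ (2 * m + 1) := by
    calc 8 = 2 ^ 3 := by norm_num
      _ ≤ 2 ^ (2 * m + 1) := Nat.pow_le_pow_right (by norm_num) (by omega)
  refine Big.of_bnPair P (k := 0) (b := (2 ^ (2 * m + 1)) ^ 12 * (2 ^ (2 * m + 1) - 1) ^ 2) (by omega) ?_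
    (S1068.result hK) (arith_2F4 hq8)
  rw [hB, ← S1090.result hK, ← S1110.result hK]
  exact tw_card_B chevF4 (by simp) _

/-! ### `²G₂(q)` -/

theorem arith_2G2 {q : ℕ} (hq : 27 ≤ q) : q ^ 3 * (q - 1) * (q ^ 3 + 1) < (3 ^ 0 * (q ^ 3 * (q - 1))) ^ 2 := by
  have e1 : q ^ 3 + 1 ≤ 2 * q ^ 3 := by
    have : 1 ≤ q ^ 3 := Nat.one_le_pow _ _ (by omega)
    omega
  have hpos : 0 < q ^ 6 * (q - 1) := Nat.mul_pos (Nat.pow_pos (by omega)) (by omega)
  calc q ^ 3 * (q - 1) * (q ^ 3 + 1) ≤ q ^ 3 * (q - 1) * (2 * q ^ 3) := by gcongr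
    _ = (q ^ 6 * (q - 1)) * 2 := by ring
    _ < (q ^ 6 * (q - 1)) * (q - 1) := Nat.mul_lt_mul_of_pos_left (by omega) hpos
    _ = _ := by ring

theorem big_2G2 {G : Type u} [Group G] (h : IsoRee G) : Big G := by
  obtain ⟨K, _, _, m, hm, hK, e⟩ := h
  refine Big.of_nonempty e ?_
  obtain ⟨P, hB, hN⟩ := S1091.result hK
  have hfin : Finite (twistedG2 K (3 ^ m)) := inferInstance
  obtain ⟨φ, hφ, hk⟩ := S1115.result hK
  have hW : 1 < (P.B ⊓ P.N).relIndex P.N := by
    rw [hB, hN, tw_relIndex chevG2 (by simp) _ hφ hk, Nat.card_eq_fintype_card]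
    decide
  have hS := BN.one_le_ncard P hW
  have hq27 : 27 ≤ 3 ^ (2 * m + 1) := by
    calc 27 = 3 ^ 3 := by norm_num
      _ ≤ 3 ^ (2 * m + 1) := Nat.pow_le_pow_right (by norm_num) (by omega)
  refine Big.of_bnPair P (k := 0) (b := (3 ^ (2 * m + 1)) ^ 3 * (3 ^ (2 * m + 1) - 1)) (by omega) ?_
    (S1069.result hK) (arith_2G2 hq27)
  rw [hB, ← (S1101.result hK).2, ← S1114.result hK]
  exact tw_card_B chevG2 (by simp) _

/-! ### Suzuki groups -/

theorem big_Sz {G : Type u} [Group G] (h : IsoSuzuki G) : Big G := by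
  obtain ⟨K, _, _, m, hm, hK, e⟩ := h
  refine Big.of_nonempty e ?_
  obtain ⟨hcard, S, hS, -⟩ := S1163.result hm hK
  have hq8 : 8 ≤ 2 ^ (2 * m + 1) := by
    calc 8 = 2 ^ 3 := by norm_num
      _ ≤ 2 ^ (2 * m + 1) := Nat.pow_le_pow_right (by norm_num) (by omega)
  generalize 2 ^ (2 * m + 1) = q at *
  have e1 : q ^ 2 + 1 < q ^ 2 * (q - 1) := by
    have h1 : 64 ≤ q ^ 2 := by
      calc 64 = 8 ^ 2 := by norm_num
        _ ≤ q ^ 2 := Nat.pow_le_pow_left hq8 2
    calc q ^ 2 + 1 < q ^ 2 * 2 := by omega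
      _ ≤ q ^ 2 * (q - 1) := Nat.mul_le_mul_left _ (by omega)
  have hpos : 0 < q ^ 2 * (q - 1) := Nat.mul_pos (Nat.pow_pos (by omega)) (by omega)
  refine Big.of_card hS hcard (Nat.mul_pos hpos (by positivity)) ?_ ?_
  · calc q ^ 2 * (q - 1) = q ^ 2 * (q - 1) * 1 := (mul_one _).symm
      _ < q ^ 2 * (q - 1) * (q ^ 2 + 1) := Nat.mul_lt_mul_of_pos_left (by
        have : 1 ≤ q ^ 2 := Nat.one_le_pow _ _ (by omega)
        omega) hpos
  · rw [pow_two (q ^ 2 * (q - 1))]
    exact Nat.mul_lt_mul_of_pos_left e1 hpos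

/-! ### The Tits group -/

/-- Large subgroups of a subgroup of index two of a group with a (B,N)-pair. -/
theorem Big.of_bnPair_index_two {G : Type u} [Group G] [Finite G] (P : BNPair G) {T : Subgroup G} (hidx : T.index = 2)
    {k b n N : ℕ} (hk : k < P.S.ncard) (hb : b ≤ Nat.card P.B) (hn : 2 * n ≤ 3 ^ k * b) (hN : Nat.card T = N)
    (h : N < n ^ 2) : Big T := by
  obtain ⟨J, hJ, hJne, hJc⟩ := BN.exists_proper P hk
  have hne : P.parabolic J ≠ ⊤ := BN.parabolic_ne_top P hJ hJne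
  refine Big.of_le_card (H := (P.parabolic J).subgroupOf T) (n := n) ?_ ?_ hN (by rw [← hN]; exact Nat.card_pos) h
  · intro ht
    rw [Subgroup.subgroupOf_eq_top] at ht
    have h1 : (P.parabolic J).index ∣ 2 := by rw [← hidx]; exact Subgroup.index_dvd_of_le ht
    rcases (Nat.dvd_prime Nat.prime_two).1 h1 with h2 | h2
    · exact hne (Subgroup.index_eq_one.1 h2)
    · have h3 : (P.parabolic J).Normal := Subgroup.normal_of_index_eq_two h2
      have h4 := S0312.result P hJ
      rw [Subgroup.normalizer_eq_top] at h4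
      exact hne h4.symm
  · have h1 : T.relIndex (P.parabolic J) ≤ T.relIndex ⊤ :=
      Subgroup.relIndex_le_of_le_right le_top Subgroup.index_ne_zero_of_finite
    rw [Subgroup.relIndex_top_right, hidx] at h1
    have h2 := Subgroup.card_mul_index (T.subgroupOf (P.parabolic J))
    have h3 : Nat.card (T.subgroupOf (P.parabolic J)) = Nat.card ((P.parabolic J).subgroupOf T) := by
      rw [← Subgroup.inf_subgroupOf_right T, ← Subgroup.inf_subgroupOf_right (P.parabolic J),
        Nat.card_congr (Subgroup.subgroupOfEquivOfLe (inf_le_right : T ⊓ P.parabolic J ≤ P.parabolic J)).toEquiv,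
        Nat.card_congr (Subgroup.subgroupOfEquivOfLe (inf_le_right : P.parabolic J ⊓ T ≤ T)).toEquiv, inf_comm]
    have h4 : (T.subgroupOf (P.parabolic J)).index ≤ 2 := h1
    rw [h3] at h2
    have h5 : 2 * n ≤ Nat.card (P.parabolic J) :=
      hn.trans ((Nat.mul_le_mul_left _ hb).trans hJc)
    rw [← h2] at h5
    have h6 : Nat.card ((P.parabolic J).subgroupOf T) * (T.subgroupOf (P.parabolic J)).index ≤
        Nat.card ((P.parabolic J).subgroupOf T) * 2 := Nat.mul_le_mul_left _ h4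
    omega

theorem big_tits_aux (m : ℕ) (hm : m = 0) (hidx : (commutator ↥(twistedF4 (ZMod 2) (2 ^ m))).index = 2)
    (hcard : Nat.card ↥(commutator ↥(twistedF4 (ZMod 2) (2 ^ m))) = 2 ^ 11 * 3 ^ 3 * 5 ^ 2 * 13) :
    Big ↥(commutator ↥(twistedF4 (ZMod 2) (2 ^ m))) := by
  have hK : Fintype.card (ZMod 2) = 2 ^ (2 * m + 1) := by rw [ZMod.card, hm]; norm_num
  obtain ⟨P, hB, hN⟩ := S1089.result hK
  obtain ⟨φ, hφ, hk⟩ := S1111.result hK
  have hfin : Finite (twistedF4 (ZMod 2) (2 ^ m)) := inferInstance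
  have hW : 2 < (P.B ⊓ P.N).relIndex P.N := by
    rw [hB, hN, tw_relIndex chevF4 (by simp) _ hφ hk, DihedralGroup.nat_card]
    norm_num
  have hS := BN.two_le_ncard P hW
  have hBc : 4096 ≤ Nat.card P.B := by
    have h1 := tw_card_B chevF4 (by simp) (twistedF4 (ZMod 2) (2 ^ m))
    rw [S1090.result hK, S1110.result hK] at h1
    rw [hB]
    refine le_trans ?_ h1
    rw [hm]
    norm_num
  exact Big.of_bnPair_index_two P hidx (k := 1) (b := 4096) (n := 6144) (by omega) hBc (by norm_num) hcard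
    (by norm_num)

theorem big_TitsGroup : Big TitsGroup := by
  have key : ∀ n : ℕ, n = 2 ^ 0 → (commutator ↥(twistedF4 (ZMod 2) n)).index = 2 →
      Nat.card ↥(commutator ↥(twistedF4 (ZMod 2) n)) = 2 ^ 11 * 3 ^ 3 * 5 ^ 2 * 13 →
      Big ↥(commutator ↥(twistedF4 (ZMod 2) n)) := by
    rintro _ rfl h1 h2
    exact big_tits_aux 0 rfl h1 h2
  exact key 1 (by norm_num) S1074.result.1 S1074.result.2.2.2

theorem big_Tits {G : Type u} [Group G] (h : IsoTits G) : Big G := by
  obtain ⟨e⟩ := h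
  have h2 := @Big.of_equiv G _ TitsGroup _ e
  exact h2 big_TitsGroup

end Cfsg.Agent.H933
end

-- part: H933/BigSmallSpor
section
/-!
Large subgroups of the Mathieu groups and of the first three Janko groups.
-/

set_option autoImplicit false

namespace Cfsg.Agent.H933

universe u

theorem card_golay : Nat.card Cfsg.GolayPt = 24 := by
  rw [Nat.card_eq_fintype_card]
  rfl

theorem big_of_golay (G : Subgroup (Equiv.Perm Cfsg.GolayPt)) (N : ℕ) (h : Nat.card G = N) (hN : 576 < N) : Big G := by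
  apply Big.of_perm
  rw [card_golay, h]
  exact hN

theorem big_m24 {G : Type u} [Group G] (h : Spor.IsoM24 G) : Big G :=
  Big.of_nonempty h (big_of_golay _ _ Cfsg.Agent.S0364.result (by norm_num))

theorem big_m23 {G : Type u} [Group G] (h : Spor.IsoM23 G) : Big G :=
  Big.of_nonempty h (big_of_golay _ _ Cfsg.Agent.SporadicA.MathieuRecog.card_M23 (by norm_num))

theorem big_m22 {G : Type u} [Group G] (h : Spor.IsoM22 G) : Big G :=
  Big.of_nonempty h (big_of_golay _ _ Cfsg.Agent.SporadicA.MathieuRecog.card_M22 (by norm_num))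

theorem big_m12 {G : Type u} [Group G] (h : Spor.IsoM12 G) : Big G :=
  Big.of_nonempty h (big_of_golay _ _ Cfsg.Agent.MTwelveType.SylowModel.card_M12 (by norm_num))

theorem big_m11 {G : Type u} [Group G] (h : Spor.IsoM11 G) : Big G :=
  Big.of_nonempty h (big_of_golay _ _ Cfsg.Agent.HNType.Alt.card_M11 (by norm_num))

open Cfsg.Agent.SporadicB.J1.Mat Cfsg.Agent.SporadicB.J1.Data Cfsg.Agent.SporadicB.KTab
  Cfsg.Agent.SporadicB.J1.Main in
theorem exists_660 : ∃ H : Subgroup Cfsg.Spor.J1, Nat.card H = 660 := by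
  have hcard : Nat.card Cfsg.Spor.J1 = 175560 := isJ1.2
  have hfin : Finite Cfsg.Spor.J1 := Nat.finite_of_card_ne_zero (by rw [hcard]; norm_num)
  let f : Fin 266 × Fin 660 → Matrix (Fin 7) (Fin 7) (ZMod 11) := fun p => dec (T p.1) * dec (H p.2)
  have hf : ∀ g : Cfsg.Spor.J1, ∃ p, f p = ((g : GL (Fin 7) (ZMod 11)) : Matrix (Fin 7) (Fin 7) (ZMod 11)) := by
    intro g
    obtain ⟨i, hi, k, hk, h⟩ := mem_S_of_mem g.2
    exact ⟨(⟨i, hi⟩, ⟨k, hk⟩), h.symm⟩
  choose F hF using hf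
  have hinj : Function.Injective F := by
    intro a b hab
    apply Subtype.ext
    apply Units.ext
    rw [← hF a, ← hF b, hab]
  have hbij : Function.Bijective F := by
    rw [Nat.bijective_iff_injective_and_card]
    refine ⟨hinj, ?_⟩
    rw [hcard]
    simp
  let P : Set Cfsg.Spor.J1 := {g | ∃ k < 660, ((g : GL (Fin 7) (ZMod 11)) : Matrix (Fin 7) (Fin 7) (ZMod 11)) = dec (H k)}
  have hmul : ∀ a ∈ P, ∀ b ∈ P, a * b ∈ P := by
    rintro a ⟨k, hk, ha⟩ b ⟨l, hl, hb⟩
    obtain ⟨m, hm, h⟩ := H_mul k hk l hl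
    refine ⟨m, hm, ?_⟩
    rw [← h, ← ha, ← hb]
    rfl
  have hone : (1 : Cfsg.Spor.J1) ∈ P := ⟨0, by norm_num, by rw [H0, dec_cI]; rfl⟩
  have hpow : ∀ a ∈ P, ∀ n : ℕ, a ^ n ∈ P := by
    intro a ha n
    induction n with
    | zero => simpa only [_root_.pow_zero] using hone
    | succ n ih => rw [pow_succ]; exact hmul _ ih _ ha
  let Q : Subgroup Cfsg.Spor.J1 :=
    { carrier := P
      mul_mem' := fun {a b} ha hb => hmul a ha b hb
      one_mem' := hone
      inv_mem' := by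
        intro a ha
        have h1 : a⁻¹ = a ^ (orderOf a - 1) := by
          rw [inv_eq_iff_mul_eq_one, ← pow_succ', Nat.sub_add_cancel ((orderOf_pos a :)), pow_orderOf_eq_one]
        rw [h1]
        exact hpow a ha _ }
  refine ⟨Q, ?_⟩
  have e : Q ≃ Fin 660 := by
    refine Equiv.ofBijective (fun g => (F g.1).2) ⟨?_, ?_⟩
    · rintro ⟨a, ha⟩ ⟨b, hb⟩ hab
      obtain ⟨k, hk, ha⟩ := ha
      obtain ⟨l, hl, hb⟩ := hb
      obtain ⟨a', ha'⟩ := hbij.2 (⟨0, by norm_num⟩, ⟨k, hk⟩)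
      obtain ⟨b', hb'⟩ := hbij.2 (⟨0, by norm_num⟩, ⟨l, hl⟩)
      have h1 : a = a' := by
        apply Subtype.ext
        apply Units.ext
        rw [ha, ← hF a', ha']
        change _ = dec (T 0) * dec (H k)
        rw [T0, dec_cI, one_mul]
      have h2 : b = b' := by
        apply Subtype.ext
        apply Units.ext
        rw [hb, ← hF b', hb']
        change _ = dec (T 0) * dec (H l)
        rw [T0, dec_cI, one_mul]
      subst h1 h2
      have h3 : (F a).2 = (F b).2 := hab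
      rw [ha', hb'] at h3
      have h4 : k = l := congrArg Fin.val h3
      subst h4
      have : F a = F b := by rw [ha', hb']
      exact Subtype.ext (hinj this)
    · rintro ⟨k, hk⟩
      obtain ⟨a', ha'⟩ := hbij.2 (⟨0, by norm_num⟩, ⟨k, hk⟩)
      refine ⟨⟨a', k, hk, ?_⟩, ?_⟩
      · rw [← hF a', ha']
        change dec (T 0) * dec (H k) = _
        rw [T0, dec_cI, one_mul]
      · change (F a').2 = _
        rw [ha']
  rw [Nat.card_congr e]
  simp

theorem big_j1 {G : Type u} [Group G] (h : Spor.IsoJ1 G) : Big G := by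
  refine Big.of_nonempty h ?_
  obtain ⟨H, hH⟩ := exists_660
  exact Big.of_card hH Cfsg.Agent.SporadicB.J1.Main.isJ1.2 (by norm_num) (by norm_num) (by norm_num)

theorem big_j2 {G : Type u} [Group G] (h : Spor.IsoJ2 G) : Big G := by
  refine Big.of_nonempty h ?_
  obtain ⟨H, hH, -⟩ := Cfsg.Agent.J2.HundredFinal.main Cfsg.Agent.J2Sylow.SporSylow.card_J2
  exact Big.of_index hH Cfsg.Agent.J2Sylow.SporSylow.card_J2 (by norm_num) (by norm_num)

end Cfsg.Agent.H933
end

-- part: H933/BigConway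
section
/-!
Large subgroups of the Conway groups, of the McLaughlin group and of the Higman–Sims group.
-/

set_option autoImplicit false

namespace Cfsg.Agent.H933

universe u

theorem big_hs {G : Type u} [Group G] (h : Spor.IsoHS G) : Big G := by
  obtain ⟨e⟩ := h
  obtain ⟨e'⟩ := Cfsg.Agent.LeechPack.X100.isoHS_G2
  refine Big.of_equiv (e.trans e'.symm) ?_
  refine Big.of_perm_hom Cfsg.Agent.LeechPack.X100.ψ Cfsg.Agent.LeechPack.X100.ψ_injective ?_
  rw [Cfsg.Agent.LeechPack.X100.card_G2]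
  simp

theorem big_mcl {G : Type u} [Group G] (h : Spor.IsoMcL G) : Big G := by
  obtain ⟨e⟩ := h
  obtain ⟨e'⟩ := Cfsg.Agent.McLType.X275.isoMcL_G1
  refine Big.of_equiv (e.trans e'.symm) ?_
  refine Big.of_perm_hom Cfsg.Agent.McLType.X275.ψ Cfsg.Agent.McLType.X275.ψ_injective ?_
  rw [Cfsg.Agent.McLType.X275.card_G1]
  simp

/-- The set of the minimal vectors. -/
def minVecs : Set Cfsg.leechLattice := {x | Cfsg.sqNorm (x : Cfsg.GolayPt → ℤ) = 32}

theorem ncard_minVecs : minVecs.ncard = 196560 := by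
  rw [← Cfsg.Agent.S0394.result, ← Set.ncard_image_of_injective minVecs Subtype.val_injective]
  congr 1
  ext x
  constructor
  · rintro ⟨y, hy, rfl⟩
    exact ⟨y.2, hy⟩
  · rintro ⟨h1, h2⟩
    exact ⟨⟨x, h1⟩, h2, rfl⟩

theorem finite_minVecs : minVecs.Finite := Set.finite_of_ncard_ne_zero (by rw [ncard_minVecs]; norm_num)

/-- A nontrivial automorphism moves a minimal vector. -/
theorem exists_moved (g : Equiv.Perm Cfsg.leechLattice) (hg : g ∈ Cfsg.Co0) (h1 : g ≠ 1) :
    ∃ x ∈ minVecs, g x ≠ x := by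
  by_contra hcon
  push Not at hcon
  apply h1
  have hadd := hg.1
  have h0 : g 0 = 0 := by
    have := hadd 0 0
    rw [add_zero] at this
    exact (add_eq_left.1 this.symm)
  let F : AddSubgroup Cfsg.leechLattice :=
    { carrier := {x | g x = x}
      add_mem' := by
        intro a b ha hb
        change g (a + b) = a + b
        rw [hadd, show g a = a from ha, show g b = b from hb]
      zero_mem' := h0
      neg_mem' := by
        intro a ha
        change g (-a) = -a
        have h2 := hadd a (-a)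
        rw [add_neg_cancel, h0, show g a = a from ha] at h2
        exact (neg_eq_of_add_eq_zero_right h2.symm).symm }
  have hle : Cfsg.leechLattice ≤ F.map Cfsg.leechLattice.subtype := by
    conv_lhs => rw [← Cfsg.Agent.S1567.result]
    rw [AddSubgroup.closure_le]
    rintro x ⟨hx1, hx2⟩
    exact ⟨⟨x, hx1⟩, hcon ⟨x, hx1⟩ hx2, rfl⟩
  ext1 x
  obtain ⟨y, hy, hyx⟩ := hle x.2
  have : y = x := Subtype.ext hyx
  subst this
  exact hy

theorem smul_mem_minVecs (g : Equiv.Perm Cfsg.leechLattice) (hg : g ∈ Cfsg.Co0) {x : Cfsg.leechLattice}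
    (hx : x ∈ minVecs) : g x ∈ minVecs := by
  change Cfsg.sqNorm _ = 32
  rw [hg.2 x]
  exact hx

/-- A group of automorphisms of the Leech lattice of order more than `196560 ^ 2`. -/
theorem big_of_le_co0 (G : Subgroup (Equiv.Perm Cfsg.leechLattice)) (hG : G ≤ Cfsg.Co0) (h : 38635833600 < Nat.card G) :
    Big G := by
  have hfin : Finite G := Nat.finite_of_card_ne_zero (by omega)
  have hnt : Nontrivial G := (Finite.one_lt_card_iff_nontrivial).1 (by omega)
  obtain ⟨g, hg⟩ := exists_ne (1 : G)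
  obtain ⟨x, hx, hgx⟩ := exists_moved g (hG g.2) (fun h => hg (Subtype.ext h))
  refine Big.of_orbit (x := x) (g := g) hgx (n := 196560) ?_ (by norm_num only []; exact h)
  rw [← ncard_minVecs]
  apply Set.ncard_le_ncard _ finite_minVecs
  rintro _ ⟨k, rfl⟩
  exact smul_mem_minVecs k (hG k.2) hx

theorem sqNorm_leechU : sqNorm (Spor.leechU : GolayPt → ℤ) = 32 := by
  change sqNorm Spor.vecU = 32
  decide +kernel

theorem sqNorm_leechV : sqNorm (Spor.leechV : GolayPt → ℤ) = 48 := by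
  change sqNorm Spor.vecV = 48
  decide +kernel

theorem card_stab_eq (v : leechLattice) :
    Nat.card ↥(Co0 ⊓ MulAction.stabilizer (Equiv.Perm leechLattice) v) = Nat.card ↥(MulAction.stabilizer Co0 v) := by
  have h : (MulAction.stabilizer Co0 v).map Co0.subtype = Co0 ⊓ MulAction.stabilizer (Equiv.Perm leechLattice) v := by
    ext g
    constructor
    · rintro ⟨h, hh, rfl⟩
      exact ⟨h.2, hh⟩
    · rintro ⟨h1, h2⟩
      exact ⟨⟨g, h1⟩, h2, rfl⟩
  rw [← h, Subgroup.card_map_of_injective Co0.subtype_injective]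

theorem big_co2 {G : Type u} [Group G] (h : Spor.IsoCo2 G) : Big G := by
  refine Big.of_nonempty h (big_of_le_co0 _ inf_le_left ?_)
  have h1 : Nat.card Spor.Co2 = 42305421312000 :=
    (card_stab_eq Spor.leechU).trans (S0402.result Spor.leechU sqNorm_leechU).2
  rw [h1]
  norm_num

theorem big_co3 {G : Type u} [Group G] (h : Spor.IsoCo3 G) : Big G := by
  refine Big.of_nonempty h (big_of_le_co0 _ inf_le_left ?_)
  have h1 : Nat.card Spor.Co3 = 495766656000 :=
    (card_stab_eq Spor.leechV).trans (S0403.result Spor.leechV sqNorm_leechV).2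
  rw [h1]
  norm_num

/-- The centre cannot fill up a stabiliser if the orbit is longer than the centre. -/
theorem sup_center_ne_top {X : Type*} [Group X] {Ω : Type*} [MulAction X Ω] (v : Ω) [Finite (Subgroup.center X)]
    (h : Nat.card (Subgroup.center X) < (MulAction.orbit X v).ncard) :
    MulAction.stabilizer X v ⊔ Subgroup.center X ≠ ⊤ := by
  intro htop
  apply absurd h
  rw [not_lt]
  have hsub : MulAction.orbit X v ⊆ Set.range (fun z : Subgroup.center X => (z : X) • v) := by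
    rintro _ ⟨g, rfl⟩
    have hg : g ∈ MulAction.stabilizer X v ⊔ Subgroup.center X := by rw [htop]; trivial
    obtain ⟨s, hs, z, hz, rfl⟩ := Subgroup.mem_sup_of_normal_right.1 hg
    refine ⟨⟨z, hz⟩, ?_⟩
    change z • v = (s * z) • v
    rw [Subgroup.mem_center_iff.1 hz s, mul_smul, show s • v = v from hs]
  refine le_trans (Set.ncard_le_ncard hsub (Set.finite_range _)) ?_
  rw [← Set.image_univ]
  refine le_trans (Set.ncard_image_le Set.finite_univ) ?_
  rw [Set.ncard_univ]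

theorem big_co1 {G : Type u} [Group G] (h : Spor.IsoCo1 G) : Big G := by
  refine Big.of_nonempty h ?_
  have horb : (MulAction.orbit Co0 Spor.leechU) = minVecs := by
    ext x
    constructor
    · rintro ⟨g, rfl⟩
      exact smul_mem_minVecs g g.2 sqNorm_leechU
    · intro hx
      obtain ⟨g, hg⟩ := S0400.result Spor.leechU x sqNorm_leechU hx
      exact ⟨g, hg⟩
  have hn : (MulAction.orbit Co0 Spor.leechU).ncard = 196560 := by rw [horb, ncard_minVecs]
  have hfin : Finite (Subgroup.center Co0) := Nat.finite_of_card_ne_zero (by rw [S0398.result]; norm_num)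
  refine Big.of_quotient (H := MulAction.stabilizer Co0 Spor.leechU) (n := 196560) ?_ ?_ ?_ ?_
  · apply sup_center_ne_top
    rw [hn, S0398.result]
    norm_num
  · rw [MulAction.index_stabilizer, hn]
  · rw [MulAction.index_stabilizer, hn]
    norm_num
  · rw [S0399.result.2]
    norm_num

end Cfsg.Agent.H933
end

-- part: H933/BigPresented
section
/-!
Large subgroups of the sporadic groups given by presentations.
-/

set_option autoImplicit false

namespace Cfsg.Agent.H933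

universe u

theorem big_suz {G : Type u} [Group G] (h : Spor.IsoSuz G) : Big G :=
  Big.of_nonempty h (Big.of_index (G := Spor.Suz) S1680.result.1 S1694.result.2 (by norm_num) (by norm_num))

theorem big_he {G : Type u} [Group G] (h : Spor.IsoHe G) : Big G :=
  Big.of_nonempty h (Big.of_index (G := Spor.He) S1683.result.1 S1695.result.2 (by norm_num) (by norm_num))

theorem big_fi22 {G : Type u} [Group G] (h : Spor.IsoFi22 G) : Big G :=
  Big.of_nonempty h (Big.of_index (G := Spor.Fi22) S1687.result.1 S1696.result.2 (by norm_num) (by norm_num))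

theorem big_fi23 {G : Type u} [Group G] (h : Spor.IsoFi23 G) : Big G :=
  Big.of_nonempty h (Big.of_index (G := Spor.Fi23) S1689.result.1 S1697.result.2 (by norm_num) (by norm_num))

theorem big_on {G : Type u} [Group G] (h : Spor.IsoON G) : Big G :=
  Big.of_nonempty h (Big.of_index (G := Spor.ON) S1692.result S1699.result.2 (by norm_num) (by norm_num))

theorem big_th {G : Type u} [Group G] (h : Spor.IsoTh G) : Big G :=
  Big.of_nonempty h (Big.of_index (G := Spor.Th) S1706.result S1700.result.2 (by norm_num) (by norm_num))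

theorem big_hn {G : Type u} [Group G] (h : Spor.IsoHN G) : Big G :=
  Big.of_nonempty h (Big.of_index (G := Spor.HN) S1707.result S1701.result.2 (by norm_num) (by norm_num))

theorem big_ly {G : Type u} [Group G] (h : Spor.IsoLy G) : Big G :=
  Big.of_nonempty h (Big.of_index (G := Spor.Ly) S1709.result S1702.result.2 (by norm_num) (by norm_num))

theorem big_j4 {G : Type u} [Group G] (h : Spor.IsoJ4 G) : Big G :=
  Big.of_nonempty h (Big.of_index (G := Spor.J4) S1712.result S1703.result.2 (by norm_num) (by norm_num))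

/-- Intersecting with a subgroup of small index. -/
theorem Big.of_inter {X : Type*} [Group X] {D H : Subgroup X} {n N : ℕ} (hn : H.index = n) (hn0 : 0 < n)
    (hD : Nat.card D = N) (hdvd : ¬ n ∣ D.index) (h : n ^ 2 < N) : Big D := by
  refine Big.of_index_le (H := H.subgroupOf D) (n := n) ?_ ?_ (by rw [hD]; exact h)
  · intro ht
    rw [Subgroup.subgroupOf_eq_top] at ht
    apply hdvd
    rw [← hn]
    exact Subgroup.index_dvd_of_le ht
  · have h1 : H.relIndex D ≤ H.relIndex ⊤ :=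
      Subgroup.relIndex_le_of_le_right le_top (by rw [Subgroup.relIndex_top_right, hn]; omega)
    rw [Subgroup.relIndex_top_right, hn] at h1
    exact h1

theorem big_fi24 {G : Type u} [Group G] (h : Spor.IsoFi24' G) : Big G :=
  Big.of_nonempty h (Big.of_inter (X := Spor.Fi24) S1690.result (by norm_num) S1698.result.2
    (by rw [S1691.result]; norm_num) (by norm_num))

end Cfsg.Agent.H933
end

-- part: H933/BigRuB
section
/-!
Large subgroups of the Rudvalis group and of the Baby Monster.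
-/

set_option autoImplicit false

namespace Cfsg.Agent.H933

universe u

theorem big_ru {G : Type u} [Group G] (h : Spor.IsoRu G) : Big G := by
  obtain ⟨e⟩ := h
  refine Big.of_equiv (e.trans Cfsg.Agent.RuLat.Main.equiv) (Big.of_perm _ ?_)
  rw [← Nat.card_congr Cfsg.Agent.RuLat.Main.equiv.toEquiv, Cfsg.Agent.RuLat.Main.main.2.1]
  simp

theorem big_b {G : Type u} [Group G] (h : Spor.IsoB G) : Big G :=
  Big.of_nonempty h (Big.of_index (G := Spor.BabyMonster) Cfsg.Agent.BM.KHAll.index_H Cfsg.Agent.BM.KHAll.card_B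
    (by norm_num) (by norm_num))

end Cfsg.Agent.H933
end

-- part: H933/BigMonster
section
/-!
A large subgroup of the Monster: the stabiliser of an axis, in the abstract model.
-/

set_option autoImplicit false

namespace Cfsg.Agent.H933

open Cfsg.Agent.MonsterX.Model Cfsg.Agent.MonsterX.MainBasic

theorem big_model {W : Type} [AddCommGroup W] [Module ℚ W] {M : MData W} (hO : MOrbit M)
    (hcard : Nat.card M.G = 808017424794512875886459904961710757005754368000000000) : Big M.G := by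
  have h1 : ∃ x ∈ M.X, x ≠ M.a₀ := by
    by_contra hcon
    push Not at hcon
    have h2 : M.X ⊆ {M.a₀} := fun x hx => hcon x hx
    have h3 := Set.ncard_le_ncard h2 (Set.finite_singleton _)
    rw [hO.card_X, Set.ncard_singleton] at h3
    omega
  obtain ⟨x, hx, hne⟩ := h1
  obtain ⟨g, hg, hgx⟩ := X_eq_orbit hO hx
  refine Big.of_orbit (G := M.G) (Ω := W) (x := M.a₀) (g := ⟨g, hg⟩) (n := 97239461142009186000) ?_ ?_ ?_
  · intro h
    apply hne
    rw [← hgx]
    exact h
  · rw [← hO.card_X]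
    apply Set.ncard_le_ncard _ (X_finite hO)
    rintro _ ⟨k, rfl⟩
    exact G_X hO k.2 (S_sub_X hO a₀_mem_S)
  · rw [hcard]
    norm_num

end Cfsg.Agent.H933
end

-- part: H933/BigMonsterFin
section
/-!
A large subgroup of the Monster.
-/

set_option autoImplicit false

namespace Cfsg.Agent.H933

universe u

theorem big_m {G : Type u} [Group G] (h : Spor.IsoM G) : Big G := by
  obtain ⟨e⟩ := h
  obtain ⟨e'⟩ := Cfsg.Agent.MonsterP.Equiv.equiv
  exact Big.of_equiv (e.trans e') (big_model Cfsg.Agent.MonsterX.InstanceFinal.mOrbit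
    Cfsg.Agent.MonsterP.EquivOf.isM_model.2)

end Cfsg.Agent.H933
end

-- part: H933/BigKnown
section
/-!
Every known non-abelian finite simple group `G` has a proper subgroup `H` with `|G : H| ^ 2 < |G|`.
-/

set_option autoImplicit false

namespace Cfsg.Agent.H933

open Cfsg

universe u

theorem big_exceptional {G : Type u} [Group G] (h : IsExceptionalLieType G) : Big G := by
  rcases h with h | h | h | h | h | h | h | h | h | h | h
  · exact big_G2 h
  · exact big_F4 h
  · exact big_E6 h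
  · exact big_E7 h
  · exact big_E8 h
  · exact big_2E6 h
  · exact big_3D4 h
  · exact big_Sz h
  · exact big_2G2 h
  · exact big_2F4 h
  · exact big_Tits h

theorem big_sporadic {G : Type u} [Group G] (h : IsSporadicGroup G) : Big G := by
  rcases h with h | h | h | h | h | h | h | h | h | h | h | h | h | h | h | h | h | h | h | h | h | h | h | h | h | h
  · exact big_m11 h
  · exact big_m12 h
  · exact big_m22 h
  · exact big_m23 h
  · exact big_m24 h
  · exact big_j1 h
  · exact big_j2 h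
  · exact big_j3 h
  · exact big_j4 h
  · exact big_co1 h
  · exact big_co2 h
  · exact big_co3 h
  · exact big_mcl h
  · exact big_hs h
  · exact big_suz h
  · exact big_he h
  · exact big_ru h
  · exact big_on h
  · exact big_ly h
  · exact big_fi22 h
  · exact big_fi23 h
  · exact big_fi24 h
  · exact big_hn h
  · exact big_th h
  · exact big_b h
  · exact big_m h

/-- The large subgroup of a known non-abelian simple group. -/
theorem big_known {G : Type u} [Group G] (hG : ¬ IsMulCommutative G) (h : IsKnownSimple' G) : Big G := by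
  rcases h with h | h | h | h | h | h | h | h | h | h
  · exfalso
    apply hG
    have h1 : Fact (Nat.card G).Prime := ⟨h⟩
    have h2 : IsCyclic G := isCyclic_of_prime_card (p := Nat.card G) rfl
    exact IsCyclic.isMulCommutative
  · exact big_alt h
  · exact big_psl hG h
  · exact big_psp hG h
  · exact big_psu hG h
  · exact big_pomega_odd hG h
  · exact big_pomega_plus hG h
  · exact big_pomega_minus hG h
  · exact big_exceptional h
  · exact big_sporadic h

end Cfsg.Agent.H933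
end
end
end
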